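import Cfsg.Agent.H744.Ppd.G2Wt

/-!
# The adjoint module of `³D₄(q)`: twenty-four weights (helper744)

`|K| = q³`, `|E| = q`, `v₀ ∈ V^U` of weight `(0, 1)`: the six extremal vectors are linearly independent and there are 18
further weights `±(f - 2 qⁱ, 0), ±(2 qⁱ - f, 1), ±(2 qⁱ, -1)`, `f = 1 + q + q²`, `i = 0, 1, 2`.
-/

set_option autoImplicit false
set_option linter.unusedSectionVars false
set_option linter.style.haveILetI false

namespace Cfsg.Agent.H744.Ppd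

open Matrix (SpecialLinearGroup)
open Cfsg.Agent.H911.SLTwo Cfsg.Agent.H875.Fn
open CoxeterSystem Cfsg.Agent.ChevalleyStructure.CoxeterGeom Cfsg.Agent.Tits.Roots Cfsg.Agent.Tits.Core
  Cfsg.Agent.Tits.Exchange Cfsg.Agent.Nodes.Reps Cfsg.Agent.Nodes.BNOf Cfsg.Agent.Nodes.StabComb
  Cfsg.Agent.Nodes.Bruhat Cfsg.Agent.Nodes.OppDec Cfsg.Agent.Nodes.LeviDec Cfsg.Agent.KFacts.RgdOpp
  Cfsg.Agent.Omega.CR Cfsg.Agent.Omega.FOne.Lift.Sd Cfsg.Agent.H905.Md Cfsg.Agent.H650.Ppd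

/-! ### the weights -/

section dist

/-- the weight `(x + y q + z q², w)` -/
def ev3 (q : ℤ) (x : ℤ × ℤ × ℤ × ℤ) : ℤ × ℤ := (x.1 + x.2.1 * q + x.2.2.1 * q ^ 2, x.2.2.2)

/-- the eighteen weights -/
def S18 : Finset (ℤ × ℤ × ℤ × ℤ) :=
  {(-1, 1, 1, 0), (1, -1, -1, 1), (2, 0, 0, -1), (-2, 0, 0, 1), (-1, 1, 1, -1), (1, -1, -1, 0),
    (1, -1, 1, 0), (-1, 1, -1, 1), (0, 2, 0, -1), (0, -2, 0, 1), (1, -1, 1, -1), (-1, 1, -1, 0),
    (1, 1, -1, 0), (-1, -1, 1, 1), (0, 0, 2, -1), (0, 0, -2, 1), (1, 1, -1, -1), (-1, -1, 1, 0)}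

/-- the weights of the extremal vectors -/
def six : Fin 6 → ℤ × ℤ × ℤ × ℤ :=
  ![(0, 0, 0, 1), (1, 1, 1, -1), (-1, -1, -1, 2), (1, 1, 1, -2), (-1, -1, -1, 1), (0, 0, 0, -1)]

/-- equality of weights -/
def Eq3 (q : ℤ) (x y : ℤ × ℤ × ℤ × ℤ) : Prop :=
  q ^ 3 - 1 ∣ (x.1 - y.1) + (x.2.1 - y.2.1) * q + (x.2.2.1 - y.2.2.1) * q ^ 2 ∧ q - 1 ∣ x.2.2.2 - y.2.2.2

instance decEq3 (q : ℤ) (x y : ℤ × ℤ × ℤ × ℤ) : Decidable (Eq3 q x y) := by unfold Eq3; infer_instance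

theorem small3 {q u v w : ℤ} (hu : |u| ≤ q - 2) (hv : |v| ≤ q - 2) (hw : |w| ≤ q - 2)
    (h : q ^ 3 - 1 ∣ u + v * q + w * q ^ 2) : u = 0 ∧ v = 0 ∧ w = 0 := by
  rw [abs_le] at hu hv hw
  have hq : 2 ≤ q := by omega
  have hq2 : 0 < q ^ 2 := by positivity
  have a1 : v * q ≤ (q - 2) * q := mul_le_mul_of_nonneg_right hv.2 (by omega)
  have a2 : -(q - 2) * q ≤ v * q := mul_le_mul_of_nonneg_right hv.1 (by omega)
  have a3 : w * q ^ 2 ≤ (q - 2) * q ^ 2 := mul_le_mul_of_nonneg_right hw.2 hq2.le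
  have a4 : -(q - 2) * q ^ 2 ≤ w * q ^ 2 := mul_le_mul_of_nonneg_right hw.1 hq2.le
  have h1 : u + v * q + w * q ^ 2 = 0 := by
    by_contra hne
    have h2 := Int.le_of_dvd (abs_pos.2 hne) ((dvd_abs _ _).2 h)
    rcases abs_cases (u + v * q + w * q ^ 2) with ⟨h3, -⟩ | ⟨h3, -⟩
    · rw [h3] at h2
      nlinarith
    · rw [h3] at h2
      nlinarith
  have h2 : w = 0 := by
    by_contra hne
    rcases lt_or_gt_of_ne hne with h3 | h3
    · have : w * q ^ 2 ≤ -1 * q ^ 2 := mul_le_mul_of_nonneg_right (by omega) hq2.le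
      nlinarith
    · have : 1 * q ^ 2 ≤ w * q ^ 2 := mul_le_mul_of_nonneg_right (by omega) hq2.le
      nlinarith
  rw [h2, zero_mul, add_zero] at h1
  have h4 : v = 0 := by
    by_contra hne
    rcases lt_or_gt_of_ne hne with h3 | h3
    · nlinarith
    · nlinarith
  rw [h4, zero_mul, add_zero] at h1
  exact ⟨h1, h4, h2⟩

theorem eq_of_eq3 {q : ℤ} (hq : 6 ≤ q) {x y : ℤ × ℤ × ℤ × ℤ} (h1 : |x.1 - y.1| ≤ 4) (h2 : |x.2.1 - y.2.1| ≤ 4)
    (h3 : |x.2.2.1 - y.2.2.1| ≤ 4) (h4 : |x.2.2.2 - y.2.2.2| ≤ 4) (h : Eq3 q x y) : x = y := by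
  obtain ⟨a, b, c⟩ := small3 (by omega) (by omega) (by omega) h.1
  have d : x.2.2.2 - y.2.2.2 = 0 := by
    by_contra hne
    have h5 := Int.le_of_dvd (abs_pos.2 hne) ((dvd_abs _ _).2 h.2)
    omega
  exact Prod.ext (by omega) (Prod.ext (by omega) (Prod.ext (by omega) (by omega)))

theorem dist18 {q : ℕ} (hq : 3 ≤ q) : ∀ x ∈ S18, ∀ y ∈ S18, Eq3 q x y → x = y := by
  rcases Nat.lt_or_ge q 6 with h | h
  · interval_cases q <;> decide +kernel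
  · have h1 : ∀ x ∈ S18, ∀ y ∈ S18, |x.1 - y.1| ≤ 4 ∧ |x.2.1 - y.2.1| ≤ 4 ∧ |x.2.2.1 - y.2.2.1| ≤ 4 ∧
        |x.2.2.2 - y.2.2.2| ≤ 4 := by decide +kernel
    intro x hx y hy hxy
    obtain ⟨a, b, c, d⟩ := h1 x hx y hy
    exact eq_of_eq3 (by exact_mod_cast h) a b c d hxy

theorem dist6 {q : ℕ} (hq : 3 ≤ q) : ∀ i, ∀ y ∈ S18, ¬ Eq3 q (six i) y := by
  rcases Nat.lt_or_ge q 6 with h | h
  · interval_cases q <;> decide +kernel
  · have h1 : ∀ i, ∀ y ∈ S18, |(six i).1 - y.1| ≤ 4 ∧ |(six i).2.1 - y.2.1| ≤ 4 ∧ |(six i).2.2.1 - y.2.2.1| ≤ 4 ∧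
        |(six i).2.2.2 - y.2.2.2| ≤ 4 ∧ six i ≠ y := by decide +kernel
    intro i y hy hxy
    obtain ⟨a, b, c, d, e⟩ := h1 i y hy
    exact e (eq_of_eq3 (by exact_mod_cast h) a b c d hxy)

theorem card18 : S18.card = 18 := by decide +kernel

end dist

section

variable {W Y : Type*} [Group W] [Group Y] {cs : CoxeterSystem CoxeterMatrix.G₂ W} {A : Fin 2 → Fin 2 → ℤ}
  {h : IsCartan CoxeterMatrix.G₂ A} {p : ℕ} {T : Subgroup Y} {n : Fin 2 → Y} {X : (Fin 2 → ℤ) → Subgroup Y}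
  {K E : Type*} [Field K] [Field E] [Fintype K] [Fintype E] {k V : Type*} [Field k] [AddCommGroup V] [Module k V]
  {R : RGD cs h p T n X} {s l : Fin 2} {ss : SpecialLinearGroup (Fin 2) K →* Y}
  {sl : SpecialLinearGroup (Fin 2) E →* Y} {ε : E →+* K} {N : Kˣ → Eˣ} {q : ℕ} {ρ : Y →* Module.End k V}

theorem Occ.of_eq {ι : K →+* k} {a b a' b' : ℤ} (h : Occ ρ ss sl ε ι a b) (ha : a' = a) (hb : b' = b) :
    Occ ρ ss sl ε ι a' b' := by rw [ha, hb]; exact h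

/-- six weights from one -/
theorem six_of_one {ι : K →+* k} (H : Two ss sl ε N (1 + q + q ^ 2)) (hq : 1 ≤ q) (hE : Fintype.card E = q) {m : ℤ}
    (hm : (q : ℤ) - 1 ∣ m - 1) {A : ℤ} (hA : A = 1 + q + q ^ 2 - 2 * m) (h : Occ ρ ss sl ε ι A (-1 + m)) :
    Occ ρ ss sl ε ι A 0 ∧ Occ ρ ss sl ε ι (-A) 1 ∧ Occ ρ ss sl ε ι (2 * m) (-1) ∧ Occ ρ ss sl ε ι (-(2 * m)) 1 ∧
      Occ ρ ss sl ε ι A (-1) ∧ Occ ρ ss sl ε ι (-A) 0 := by
  have hE' : ((Fintype.card E - 1 : ℕ) : ℤ) = (q : ℤ) - 1 := by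
    rw [hE, Nat.cast_sub hq]; rfl
  obtain ⟨x, hx⟩ := hm
  have hf : ((1 + q + q ^ 2 : ℕ) : ℤ) = 1 + q + q ^ 2 := by push_cast; ring
  have o1 : Occ ρ ss sl ε ι A 0 := h.congr (by rw [sub_self]; exact dvd_zero _) (by
    rw [hE']; exact ⟨-x, by linear_combination -hx⟩)
  have o2 : Occ ρ ss sl ε ι (-A) 1 := (o1.refl_s H).congr (by rw [sub_self]; exact dvd_zero _) (by
    rw [hE', hA]; exact ⟨2 * x - (q + 2), by linear_combination 2 * hx⟩)
  have o3 : Occ ρ ss sl ε ι (2 * m) (-1) := by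
    have := o2.refl_l H
    rw [hf] at this
    convert this using 1
    rw [hA]; ring
  have o4 : Occ ρ ss sl ε ι (-(2 * m)) 1 := (o3.refl_s H).congr (by rw [sub_self]; exact dvd_zero _) (by
    rw [hE']; exact ⟨-(2 * x), by linear_combination -2 * hx⟩)
  have o5 : Occ ρ ss sl ε ι A (-1) := by
    have := o4.refl_l H
    rw [hf] at this
    convert this using 1
    rw [hA]; ring
  have o6 : Occ ρ ss sl ε ι (-A) 0 := (o5.refl_s H).congr (by rw [sub_self]; exact dvd_zero _) (by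
    rw [hE', hA]; exact ⟨2 * x - (q + 2), by linear_combination 2 * hx⟩)
  exact ⟨o1, o2, o3, o4, o5, o6⟩

/-- the weights of the extremal vectors -/
theorem six_vec {ι : K →+* k} (H : Two ss sl ε N (1 + q + q ^ 2)) (hq : 1 ≤ q) (hE : Fintype.card E = q) {v₀ : V}
    (h : IsOcc ρ ss sl ε ι v₀ 0 1) (i : Fin 6) : IsOcc ρ ss sl ε ι (ρ ((![1, sl ww, ss ww * sl ww,
      sl ww * (ss ww * sl ww), ss ww * (sl ww * (ss ww * sl ww)),
      sl ww * (ss ww * (sl ww * (ss ww * sl ww)))] : Fin 6 → Y) i) v₀) (ev3 q (six i)).1 (ev3 q (six i)).2 := by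
  have hE' : ((Fintype.card E - 1 : ℕ) : ℤ) = (q : ℤ) - 1 := by
    rw [hE, Nat.cast_sub hq]; rfl
  have hf : ((1 + q + q ^ 2 : ℕ) : ℤ) = 1 + q + q ^ 2 := by push_cast; ring
  set f : ℤ := 1 + q + q ^ 2 with hfdef
  have o1 : IsOcc ρ ss sl ε ι (ρ (sl ww) v₀) f (-1) := by
    have := h.refl_l H
    rw [hf] at this
    convert this using 1
    ring
  have o2 : IsOcc ρ ss sl ε ι (ρ (ss ww) (ρ (sl ww) v₀)) (-f) 2 :=
    (o1.refl_s H).congr (by rw [sub_self]; exact dvd_zero _) (by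
      rw [hE']; exact ⟨-(q + 2), by rw [hfdef]; ring⟩)
  have o3 : IsOcc ρ ss sl ε ι (ρ (sl ww) (ρ (ss ww) (ρ (sl ww) v₀))) f (-2) := by
    have := o2.refl_l H
    rw [hf] at this
    convert this using 1
    ring
  have o4 : IsOcc ρ ss sl ε ι (ρ (ss ww) (ρ (sl ww) (ρ (ss ww) (ρ (sl ww) v₀)))) (-f) 1 :=
    (o3.refl_s H).congr (by rw [sub_self]; exact dvd_zero _) (by
      rw [hE']; exact ⟨-(q + 2), by rw [hfdef]; ring⟩)
  have o5 : IsOcc ρ ss sl ε ι (ρ (sl ww) (ρ (ss ww) (ρ (sl ww) (ρ (ss ww) (ρ (sl ww) v₀))))) 0 (-1) := by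
    have := o4.refl_l H
    rw [hf] at this
    convert this using 1
    ring
  fin_cases i
  · have e : ev3 (q : ℤ) (six 0) = (0, 1) := by
      show ((0 : ℤ) + 0 * q + 0 * q ^ 2, (1 : ℤ)) = _
      congr 1
      ring
    rw [show (⟨0, by norm_num⟩ : Fin 6) = 0 from rfl, e]
    show IsOcc ρ ss sl ε ι (ρ 1 v₀) _ _
    rw [map_one]
    exact h
  · have e : ev3 (q : ℤ) (six 1) = (f, -1) := by
      simp only [ev3, six, Matrix.cons_val_one, Matrix.cons_val_zero, Fin.isValue, Prod.mk.injEq, and_true, hfdef]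
      ring
    rw [show (⟨1, by norm_num⟩ : Fin 6) = 1 from rfl, e]
    exact o1
  · have e : ev3 (q : ℤ) (six 2) = (-f, 2) := by
      show ((-1 : ℤ) + -1 * q + -1 * q ^ 2, (2 : ℤ)) = _
      rw [hfdef]
      congr 1
      ring
    rw [show (⟨2, by norm_num⟩ : Fin 6) = 2 from rfl, e]
    show IsOcc ρ ss sl ε ι (ρ (ss ww * sl ww) v₀) _ _
    rw [map_mul]
    exact o2
  · have e : ev3 (q : ℤ) (six 3) = (f, -2) := by
      show ((1 : ℤ) + 1 * q + 1 * q ^ 2, (-2 : ℤ)) = _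
      rw [hfdef]
      congr 1
      ring
    rw [show (⟨3, by norm_num⟩ : Fin 6) = 3 from rfl, e]
    show IsOcc ρ ss sl ε ι (ρ (sl ww * (ss ww * sl ww)) v₀) _ _
    rw [map_mul, map_mul]
    exact o3
  · have e : ev3 (q : ℤ) (six 4) = (-f, 1) := by
      show ((-1 : ℤ) + -1 * q + -1 * q ^ 2, (1 : ℤ)) = _
      rw [hfdef]
      congr 1
      ring
    rw [show (⟨4, by norm_num⟩ : Fin 6) = 4 from rfl, e]
    show IsOcc ρ ss sl ε ι (ρ (ss ww * (sl ww * (ss ww * sl ww))) v₀) _ _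
    rw [map_mul, map_mul, map_mul]
    exact o4
  · have e : ev3 (q : ℤ) (six 5) = (0, -1) := by
      show ((0 : ℤ) + 0 * q + 0 * q ^ 2, (-1 : ℤ)) = _
      congr 1
      ring
    rw [show (⟨5, by norm_num⟩ : Fin 6) = 5 from rfl, e]
    show IsOcc ρ ss sl ε ι (ρ (sl ww * (ss ww * (sl ww * (ss ww * sl ww)))) v₀) _ _
    rw [map_mul, map_mul, map_mul, map_mul]
    exact o5

variable [Finite Y] [Finite W] [hp : Fact p.Prime] [CharP k p] [FiniteDimensional k V] [Nontrivial V] {a : ℕ}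

/-- **the long node of `³D₄(q)`** -/
theorem long24_d4 (H : Hx R s l ss sl ε N (1 + p ^ a + (p ^ a) ^ 2))
    (hirr : ∀ L : Submodule k V, Ivt ρ (GG cs h T X) L → L = ⊥ ∨ L = ⊤)
    {v₀ : V} (hv₀ : v₀ ∈ D cs h X ρ) {φ₀ : Module.Dual k V} (hφ₀ : φ₀ ∈ fx (dualRep ρ) (UN cs h X)) (hne : φ₀ v₀ ≠ 0)
    (ι : K →+* k) (ha : a ≠ 0) (hK : Fintype.card K = (p ^ a) ^ 3) (hE : Fintype.card E = p ^ a) (hq : 3 ≤ p ^ a)
    (hs : s ∈ Jx cs h X ρ) (hl : l ∉ Jx cs h X ρ)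
    (htor : ∀ t : Eˣ, ρ (sl (hh t)) v₀ = ι (ε (t : E)) • v₀) : 24 ≤ Module.finrank k V := by
  set q : ℕ := p ^ a with hqdef
  have hq1 : 1 ≤ q := by omega
  have hq2 : 1 ≤ q ^ 2 := Nat.one_le_pow _ _ (by omega)
  have hq3 : 1 ≤ q ^ 3 := Nat.one_le_pow _ _ (by omega)
  have hcK : 1 + q + q ^ 2 ≤ Fintype.card K - 1 := by
    rw [hK]
    have h1 : 3 * q ^ 2 ≤ q ^ 3 := by rw [pow_succ q 2, mul_comm]; exact Nat.mul_le_mul_left _ hq
    have h2 : 3 * q ≤ q ^ 2 := by rw [pow_two]; exact Nat.mul_le_mul_right _ hq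
    omega
  have hN : ((Fintype.card K - 1 : ℕ) : ℤ) = (q : ℤ) ^ 3 - 1 := by
    rw [hK, Nat.cast_sub hq3]
    push_cast
    ring
  have hM : ((Fintype.card E - 1 : ℕ) : ℤ) = (q : ℤ) - 1 := by
    rw [hE, Nat.cast_sub hq1]; rfl
  have hf : ((1 + q + q ^ 2 : ℕ) : ℤ) = 1 + q + q ^ 2 := by push_cast; ring
  have h1 : IsOcc ρ ss sl ε ι v₀ 0 1 :=
    ⟨fun t => by rw [fix_J H.Ns hs hv₀, zpow_zero, one_smul], fun t => by rw [htor, zpow_one]⟩
  have h2 := h1.refl_l H.two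
  rw [hf, mul_one, zero_add] at h2
  have S2 := H.str_sl hirr hv₀ hφ₀ hne hl ι (c := 1 + q + q ^ 2) (by omega) hcK (fun t => by
    rw [h2.1 t]
    congr 1
    rw [← zpow_natCast, hf])
  -- the three weights
  have hpq : p ∣ q := dvd_pow_self p ha
  have hp1 : ¬ p ∣ 1 := fun h => hp.out.one_lt.ne' (Nat.dvd_one.1 h)
  have m0 : 1 ∈ SS p (1 + q + q ^ 2) := by
    refine one_mem_SS p fun h => hp1 ?_
    have h3 := (Nat.dvd_add_left (hpq.trans (dvd_pow_self q two_ne_zero))).1 h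
    exact (Nat.dvd_add_left hpq).1 h3
  have m1 : q ∈ SS p (1 + q + q ^ 2) := by
    rw [add_assoc, hqdef, mem_SS_add (t := a) (r₁ := 1) (by rw [← hqdef]; omega)
      (Dvd.dvd.mul_left (dvd_refl _) 1 |>.trans (by
        rw [one_mul]
        exact Dvd.intro (1 + p ^ a) (by ring))), Nat.mod_self]
    refine ⟨zero_mem_SS 1, ?_⟩
    have h3 := pow_mem_SS p (a := a) (c := 1 + p ^ a) (fun h => hp1 ((Nat.dvd_add_left hpq).1 h))
    rwa [mul_add, mul_one, ← pow_two] at h3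
  have m2 : q ^ 2 ∈ SS p (1 + q + q ^ 2) := by
    have h4 : 1 + q < q ^ 2 := by
      have h2 : 3 * q ≤ q ^ 2 := by rw [pow_two]; exact Nat.mul_le_mul_right _ hq
      omega
    have h3 : q ^ 2 = p ^ (a * 2) := by rw [hqdef, ← pow_mul]
    rw [h3] at h4 ⊢
    rw [mem_SS_add h4 (dvd_refl _), Nat.mod_self]
    exact ⟨zero_mem_SS _, self_mem_SS _⟩
  have key : ∀ m : ℕ, m ∈ SS p (1 + q + q ^ 2) → m ≠ 0 → (q : ℤ) - 1 ∣ (m : ℤ) - 1 →
      ∀ A : ℤ, A = 1 + q + q ^ 2 - 2 * m → Occ ρ ss sl ε ι A 0 ∧ Occ ρ ss sl ε ι (-A) 1 ∧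
        Occ ρ ss sl ε ι (2 * m) (-1) ∧ Occ ρ ss sl ε ι (-(2 * m)) 1 ∧
        Occ ρ ss sl ε ι A (-1) ∧ Occ ρ ss sl ε ι (-A) 0 := by
    intro m hm hm0 hd A hA
    refine six_of_one H.two hq1 hE hd hA ?_
    have hle : m ≤ Fintype.card K - 1 := (mem_SS.1 hm).1.trans hcK
    refine ⟨_, S2.cf_ne p hm0 hm, ?_⟩
    have h5 := h2.str_s H.two ι 1 (fun x => (pow_one _).symm) hle
    convert h5 using 1
    · rw [hA]; push_cast; ring
    · push_cast; ring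
  obtain ⟨a1, a2, a3, a4, a5, a6⟩ := key 1 m0 one_ne_zero (by simp) (-1 + 1 * q + 1 * q ^ 2) (by push_cast; ring)
  obtain ⟨b1, b2, b3, b4, b5, b6⟩ := key q m1 (by omega) (dvd_refl _) (1 + -1 * q + 1 * q ^ 2) (by ring)
  obtain ⟨c1, c2, c3, c4, c5, c6⟩ := key (q ^ 2) m2 (by omega) (by
    push_cast
    exact ⟨q + 1, by ring⟩) (1 + 1 * q + -1 * q ^ 2) (by push_cast; ring)
  have h18 : ∀ x ∈ S18, Occ ρ ss sl ε ι (ev3 q x).1 (ev3 q x).2 := by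
    intro x hx
    unfold S18 at hx
    simp only [Finset.mem_insert, Finset.mem_singleton] at hx
    rcases hx with rfl | rfl | rfl | rfl | rfl | rfl | rfl | rfl | rfl | rfl | rfl | rfl | rfl | rfl | rfl | rfl |
      rfl | rfl
    · exact a1
    · exact a2.of_eq (by simp only [ev3]; ring) rfl
    · exact a3.of_eq (by simp only [ev3]; push_cast; ring) rfl
    · exact a4.of_eq (by simp only [ev3]; push_cast; ring) rfl
    · exact a5
    · exact a6.of_eq (by simp only [ev3]; ring) rfl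
    · exact b1
    · exact b2.of_eq (by simp only [ev3]; ring) rfl
    · exact b3.of_eq (by simp only [ev3]; ring) rfl
    · exact b4.of_eq (by simp only [ev3]; ring) rfl
    · exact b5
    · exact b6.of_eq (by simp only [ev3]; ring) rfl
    · exact c1
    · exact c2.of_eq (by simp only [ev3]; ring) rfl
    · exact c3.of_eq (by simp only [ev3]; push_cast; ring) rfl
    · exact c4.of_eq (by simp only [ev3]; push_cast; ring) rfl
    · exact c5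
    · exact c6.of_eq (by simp only [ev3]; ring) rfl
  have e1 : ∀ x y : ℤ × ℤ × ℤ × ℤ, (x.1 - y.1) + (x.2.1 - y.2.1) * q + (x.2.2.1 - y.2.2.1) * q ^ 2 =
      (ev3 q x).1 - (ev3 q y).1 := fun x y => by
    show _ = x.1 + x.2.1 * q + x.2.2.1 * q ^ 2 - (y.1 + y.2.1 * q + y.2.2.1 * q ^ 2)
    ring
  have hinj : Set.InjOn (ev3 (q : ℤ)) (S18 : Set (ℤ × ℤ × ℤ × ℤ)) := by
    intro x hx y hy hxy
    refine dist18 hq x hx y hy ⟨?_, ?_⟩
    · rw [e1, hxy, sub_self]; exact dvd_zero _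
    · have h6 := congrArg Prod.snd hxy
      have h7 : x.2.2.2 = y.2.2.2 := h6
      rw [h7, sub_self]; exact dvd_zero _
  have hcount := count (ρ := ρ) (ss := ss) (sl := sl) (ε := ε) (ι := ι) (H.indep_six hirr hv₀ hφ₀ hne hl)
    (a := fun i => ev3 q (six i)) (fun i => six_vec H.two hq1 hE h1 i) (S18.image (ev3 q)) (by
      intro y hy
      obtain ⟨x, hx, rfl⟩ := Finset.mem_image.1 hy
      exact h18 x hx) (by
      intro i y hy
      obtain ⟨x, hx, rfl⟩ := Finset.mem_image.1 hy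
      rw [hN, hM, ← e1]
      exact dist6 hq i x hx) (by
      intro y hy z hz g1 g2
      obtain ⟨x, hx, rfl⟩ := Finset.mem_image.1 hy
      obtain ⟨x', hx', rfl⟩ := Finset.mem_image.1 hz
      rw [hN, ← e1] at g1
      rw [hM] at g2
      rw [dist18 hq x hx x' hx' ⟨g1, g2⟩])
  rw [Fintype.card_fin, Finset.card_image_of_injOn hinj, card18] at hcount
  exact hcount

end

end Cfsg.Agent.H744.Ppd
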