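import Cfsg.Agent.H744.Ppd.Occ

/-!
# Twenty-four weights (helper744)

The weights of `V = M ⊗ M^(q)`, `M` the module of `G₂(q²)` with highest weight a root: exponents `x + y q` modulo `q² - 1`.
-/

set_option autoImplicit false
set_option linter.unusedSectionVars false

namespace Cfsg.Agent.H744.Ppd

open Matrix (SpecialLinearGroup)
open Cfsg.Agent.H911.SLTwo

/-- the weight `(x + y q, z + w q)` -/
def ev (q : ℤ) (x : ℤ × ℤ × ℤ × ℤ) : ℤ × ℤ := (x.1 + x.2.1 * q, x.2.2.1 + x.2.2.2 * q)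

/-- the reflections -/
def rsQ (x : ℤ × ℤ × ℤ × ℤ) : ℤ × ℤ × ℤ × ℤ := (-x.1, -x.2.1, x.2.2.1 + x.1, x.2.2.2 + x.2.1)

/-- the reflections -/
def rlQ (x : ℤ × ℤ × ℤ × ℤ) : ℤ × ℤ × ℤ × ℤ := (x.1 + 3 * x.2.2.1, x.2.1 + 3 * x.2.2.2, -x.2.2.1, -x.2.2.2)

theorem ev_rsQ (q : ℤ) (x : ℤ × ℤ × ℤ × ℤ) : ev q (rsQ x) = rs (ev q x) := by
  apply Prod.ext
  · show -x.1 + -x.2.1 * q = -(x.1 + x.2.1 * q)
    ring
  · show x.2.2.1 + x.1 + (x.2.2.2 + x.2.1) * q = x.2.2.1 + x.2.2.2 * q + (x.1 + x.2.1 * q)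
    ring

theorem ev_rlQ (q : ℤ) (x : ℤ × ℤ × ℤ × ℤ) : ev q (rlQ x) = rl 3 (ev q x) := by
  apply Prod.ext
  · show x.1 + 3 * x.2.2.1 + (x.2.1 + 3 * x.2.2.2) * q = x.1 + x.2.1 * q + 3 * (x.2.2.1 + x.2.2.2 * q)
    ring
  · show -x.2.2.1 + -x.2.2.2 * q = -(x.2.2.1 + x.2.2.2 * q)
    ring

/-- the orbit -/
def orbQ (x : ℤ × ℤ × ℤ × ℤ) : List (ℤ × ℤ × ℤ × ℤ) :=
  [x, rsQ x, rlQ (rsQ x), rsQ (rlQ (rsQ x)), rlQ (rsQ (rlQ (rsQ x))), rsQ (rlQ (rsQ (rlQ (rsQ x)))),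
    rlQ x, rsQ (rlQ x), rlQ (rsQ (rlQ x)), rsQ (rlQ (rsQ (rlQ x))), rlQ (rsQ (rlQ (rsQ (rlQ x)))),
    rsQ (rlQ (rsQ (rlQ (rsQ (rlQ x)))))]

theorem ev_orbQ (q : ℤ) (x : ℤ × ℤ × ℤ × ℤ) : (orbQ x).map (ev q) = orb 3 (ev q x) := by
  unfold orbQ orb
  simp only [List.map_cons, List.map_nil, ev_rsQ, ev_rlQ]

/-- the two orbits -/
def SQ (a b : ℤ × ℤ × ℤ × ℤ) : Finset (ℤ × ℤ × ℤ × ℤ) := (orbQ a ++ orbQ b).toFinset

/-- different weights -/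
def Inj (N q : ℤ) (S : Finset (ℤ × ℤ × ℤ × ℤ)) : Prop :=
  ∀ x ∈ S, ∀ y ∈ S, N ∣ x.1 - y.1 + (x.2.1 - y.2.1) * q → N ∣ x.2.2.1 - y.2.2.1 + (x.2.2.2 - y.2.2.2) * q → x = y

instance decInj (N q : ℤ) (S : Finset (ℤ × ℤ × ℤ × ℤ)) : Decidable (Inj N q S) := by unfold Inj; infer_instance

theorem small {q u v : ℤ} (hu : |u| ≤ q - 2) (hv : |v| ≤ q - 2) (h : q ^ 2 - 1 ∣ u + v * q) : u = 0 ∧ v = 0 := by
  rw [abs_le] at hu hv
  have h1 : u + v * q = 0 := by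
    by_contra hne
    have h2 := Int.le_of_dvd (abs_pos.2 hne) ((dvd_abs _ _).2 h)
    rcases abs_cases (u + v * q) with ⟨h3, -⟩ | ⟨h3, -⟩
    · nlinarith
    · nlinarith
  have h2 : v = 0 := by
    by_contra hne
    rcases lt_or_gt_of_ne hne with h3 | h3
    · nlinarith
    · nlinarith
  rw [h2, zero_mul, add_zero] at h1
  exact ⟨h1, h2⟩

theorem inj_large {S : Finset (ℤ × ℤ × ℤ × ℤ)} (hS : ∀ x ∈ S, ∀ y ∈ S, |x.1 - y.1| ≤ 12 ∧ |x.2.1 - y.2.1| ≤ 12 ∧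
    |x.2.2.1 - y.2.2.1| ≤ 12 ∧ |x.2.2.2 - y.2.2.2| ≤ 12) {q : ℤ} (hq : 14 ≤ q) : Inj (q ^ 2 - 1) q S := by
  intro x hx y hy h1 h2
  obtain ⟨a1, a2, a3, a4⟩ := hS x hx y hy
  obtain ⟨b1, b2⟩ := small (by omega) (by omega) h1
  obtain ⟨b3, b4⟩ := small (by omega) (by omega) h2
  exact Prod.ext (by omega) (Prod.ext (by omega) (Prod.ext (by omega) (by omega)))

/-- short node -/
theorem inj_short {q : ℕ} (hq : 3 ≤ q) : Inj ((q : ℤ) ^ 2 - 1) q (SQ (-1, 1, 1, 0) (2, -1, -1, 1)) := by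
  rcases Nat.lt_or_ge q 14 with h | h
  · interval_cases q <;> decide +kernel
  · exact inj_large (by decide +kernel) (by exact_mod_cast h)

/-- long node, `p ≠ 3` -/
theorem inj_long {q : ℕ} (hq : 4 ≤ q) : Inj ((q : ℤ) ^ 2 - 1) q (SQ (1, 3, 0, -1) (3, 1, -1, 0)) := by
  rcases Nat.lt_or_ge q 14 with h | h
  · interval_cases q <;> decide +kernel
  · exact inj_large (by decide +kernel) (by exact_mod_cast h)

/-- long node, `p = 3` -/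
theorem inj_long3 {q : ℕ} (hq : 3 ≤ q) (hq4 : q ≠ 4) :
    Inj ((q : ℤ) ^ 2 - 1) q (SQ (3, 0, -1, 1) (-3, 3, 2, -1)) := by
  rcases (show q = 3 ∨ (5 ≤ q ∧ q < 14) ∨ 14 ≤ q by omega) with rfl | ⟨h5, h⟩ | h
  · decide +kernel
  · clear hq hq4
    interval_cases q <;> decide +kernel
  · exact inj_large (by decide +kernel) (by exact_mod_cast h)

section

variable {K Y : Type*} [Field K] [Fintype K] [Group Y] {k V : Type*} [Field k] [AddCommGroup V] [Module k V]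
  {ρ : Y →* Module.End k V} {ss sl : SpecialLinearGroup (Fin 2) K →* Y} {ι : K →+* k} {N : Kˣ → Kˣ}

/-- counting weights `(x + y q, z + w q)` -/
theorem card_le_of_occ {ε : K →+* K} {q : ℕ} (hK : Fintype.card K = q ^ 2) [FiniteDimensional k V]
    {S : Finset (ℤ × ℤ × ℤ × ℤ)} (hS : Inj ((q : ℤ) ^ 2 - 1) q S)
    (hocc : ∀ x ∈ S, Occ ρ ss sl ε ι (ev q x).1 (ev q x).2) : S.card ≤ Module.finrank k V := by
  classical
  have hq : 1 ≤ q ^ 2 := by rw [← hK]; exact Fintype.card_pos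
  have hN : ((Fintype.card K - 1 : ℕ) : ℤ) = (q : ℤ) ^ 2 - 1 := by
    rw [hK, Nat.cast_sub hq]
    push_cast
    ring
  have e1 : ∀ x y : ℤ × ℤ × ℤ × ℤ, x.1 - y.1 + (x.2.1 - y.2.1) * q = (ev q x).1 - (ev q y).1 := fun x y => by
    show _ = x.1 + x.2.1 * q - (y.1 + y.2.1 * q); ring
  have e2 : ∀ x y : ℤ × ℤ × ℤ × ℤ, x.2.2.1 - y.2.2.1 + (x.2.2.2 - y.2.2.2) * q = (ev q x).2 - (ev q y).2 :=
    fun x y => by
      show _ = x.2.2.1 + x.2.2.2 * q - (y.2.2.1 + y.2.2.2 * q); ring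
  have hinj : Set.InjOn (ev q) (S : Set (ℤ × ℤ × ℤ × ℤ)) := by
    intro x hx y hy hxy
    refine hS x hx y hy ?_ ?_
    · rw [e1, hxy, sub_self]; exact dvd_zero _
    · rw [e2, hxy, sub_self]; exact dvd_zero _
  have h := count (ρ := ρ) (ss := ss) (sl := sl) (ε := ε) (ι := ι) (α := Empty) (x := fun i => i.elim)
    linearIndependent_empty_type (a := fun i => i.elim) (fun i => i.elim) (S.image (ev q)) (by
      intro y hy
      obtain ⟨x, hx, rfl⟩ := Finset.mem_image.1 hy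
      exact hocc x hx) (fun i => i.elim) (by
      intro y hy z hz h1 h2
      obtain ⟨x, hx, rfl⟩ := Finset.mem_image.1 hy
      obtain ⟨x', hx', rfl⟩ := Finset.mem_image.1 hz
      rw [hN] at h1 h2
      congr 1
      refine hS x hx x' hx' ?_ ?_
      · rw [e1]; exact h1
      · rw [e2]; exact h2)
  rwa [Fintype.card_empty, zero_add, Finset.card_image_of_injOn hinj] at h

/-- **twenty-four weights** -/
theorem twentyfour (H : Two ss sl (RingHom.id K) N 3) {q : ℕ} (hK : Fintype.card K = q ^ 2) [FiniteDimensional k V]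
    {a b : ℤ × ℤ × ℤ × ℤ} (hS : Inj ((q : ℤ) ^ 2 - 1) q (SQ a b)) (hcard : (SQ a b).card = 24)
    (ha : Occ ρ ss sl (RingHom.id K) ι (ev q a).1 (ev q a).2)
    (hb : Occ ρ ss sl (RingHom.id K) ι (ev q b).1 (ev q b).2) : 24 ≤ Module.finrank k V := by
  rw [← hcard]
  refine card_le_of_occ (ρ := ρ) (ss := ss) (sl := sl) (ι := ι) (ε := RingHom.id K) hK hS fun x hx => ?_
  have h3 : ((3 : ℕ) : ℤ) = 3 := rfl
  unfold SQ at hx
  rw [List.mem_toFinset, List.mem_append] at hx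
  rcases hx with hx | hx
  · have h1 := List.mem_map_of_mem (f := ev q) hx
    rw [ev_orbQ, ← h3] at h1
    exact Occ.orb H (x := ev q a) ha h1
  · have h1 := List.mem_map_of_mem (f := ev q) hx
    rw [ev_orbQ, ← h3] at h1
    exact Occ.orb H (x := ev q b) hb h1

end

end Cfsg.Agent.H744.Ppd
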