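import Cfsg.Agent.H744.Ppd.Inst
import Cfsg.Agent.H744.Ppd.Dist

/-!
# `G₂(q²)` over `F_q`: twenty-four weights (helper744)

`R` of type `G₂`, `|K| = q²`, `v₀ ∈ V^U` of weight `(1 + q) ω`:

* `short24` : `ω` the short fundamental weight;
* `long24` : `ω` the long one, `p ≠ 3`, `q ≥ 4`; `long24_three` : `p = 3`.
-/

set_option autoImplicit false
set_option linter.unusedSectionVars false
set_option linter.style.haveILetI false

namespace Cfsg.Agent.H744.Ppd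

open Matrix (SpecialLinearGroup)
open Cfsg.Agent.H911.SLTwo Cfsg.Agent.H875.Fn
open CoxeterSystem Cfsg.Agent.ChevalleyStructure.CoxeterGeom Cfsg.Agent.Tits.Roots Cfsg.Agent.Tits.Core
  Cfsg.Agent.Tits.Exchange Cfsg.Agent.Nodes.Reps Cfsg.Agent.Nodes.BNOf Cfsg.Agent.Nodes.StabComb
  Cfsg.Agent.Nodes.Bruhat Cfsg.Agent.Nodes.OppDec Cfsg.Agent.Nodes.LeviDec Cfsg.Agent.KFacts.RgdOpp
  Cfsg.Agent.Omega.CR Cfsg.Agent.Omega.FOne.Lift.Sd Cfsg.Agent.H905.Md Cfsg.Agent.H650.Ppd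

/-! ### the sets `SS` -/

section ss

variable (p : ℕ) [hp : Fact p.Prime]

theorem one_mem_SS {c : ℕ} (hc : ¬ p ∣ c) : 1 ∈ SS p c := by
  rw [mem_SS', Nat.choose_one_right]
  exact hc

theorem one_mem_SS_q {a : ℕ} (ha : a ≠ 0) : 1 ∈ SS p (1 + p ^ a) := by
  refine one_mem_SS p fun h => ?_
  have h1 := (Nat.dvd_add_left (dvd_pow_self p ha)).1 h
  exact hp.out.one_lt.ne' (Nat.dvd_one.1 h1)

theorem pow_mem_SS {a c : ℕ} (hc : ¬ p ∣ c) : p ^ a ∈ SS p (p ^ a * c) := by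
  induction a with
  | zero => rw [pow_zero, one_mul]; exact one_mem_SS p hc
  | succ a ih => rw [pow_succ', mul_assoc, mem_SS_p_mul]; exact ih

theorem q_mem_SS {a c : ℕ} (hc : ¬ p ∣ c) (h : c < p ^ a) : p ^ a ∈ SS p (c + p ^ a * c) := by
  rw [mem_SS_add h (Dvd.intro _ rfl), Nat.mod_self]
  exact ⟨zero_mem_SS c, pow_mem_SS p hc⟩

end ss

section

variable {W Y : Type*} [Group W] [Group Y] {cs : CoxeterSystem CoxeterMatrix.G₂ W} {A : Fin 2 → Fin 2 → ℤ}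
  {h : IsCartan CoxeterMatrix.G₂ A} {p : ℕ} {T : Subgroup Y} {n : Fin 2 → Y} {X : (Fin 2 → ℤ) → Subgroup Y}
  {K : Type*} [Field K] [Fintype K] {k V : Type*} [Field k] [AddCommGroup V] [Module k V]
  {R : RGD cs h p T n X} {s l : Fin 2} {ss : SpecialLinearGroup (Fin 2) K →* Y}
  {sl : SpecialLinearGroup (Fin 2) K →* Y} {N : Kˣ → Kˣ} [Finite Y] [Finite W] [hp : Fact p.Prime]
  [CharP k p] {ρ : Y →* Module.End k V} [FiniteDimensional k V] [Nontrivial V]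

variable (H : Hx R s l ss sl (RingHom.id K) N 3) (hirr : ∀ L : Submodule k V, Ivt ρ (GG cs h T X) L → L = ⊥ ∨ L = ⊤)
  {v₀ : V} (hv₀ : v₀ ∈ D cs h X ρ) {φ₀ : Module.Dual k V} (hφ₀ : φ₀ ∈ fx (dualRep ρ) (UN cs h X)) (hne : φ₀ v₀ ≠ 0)
  (ι : K →+* k) {a : ℕ} (ha : a ≠ 0) (hK : Fintype.card K = (p ^ a) ^ 2)
include H hirr hv₀ hφ₀ hne ha hK

/-- short node -/
theorem short24 (hq : 3 ≤ p ^ a) (hs : s ∉ Jx cs h X ρ) (hl : l ∈ Jx cs h X ρ)
    (htor : ∀ t : Kˣ, ρ (ss (hh t)) v₀ = ι (t : K) ^ (1 + p ^ a) • v₀) : 24 ≤ Module.finrank k V := by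
  have hN := H.Nl
  have hcK : 1 + p ^ a ≤ Fintype.card K - 1 := by
    rw [hK, pow_two]
    have := Nat.mul_le_mul_left (p ^ a) hq
    omega
  have hc1 : 1 ≤ 1 + p ^ a := by omega
  have h1 : IsOcc ρ ss sl (RingHom.id K) ι v₀ ((1 + p ^ a : ℕ) : ℤ) 0 :=
    ⟨fun t => by rw [htor, zpow_natCast], fun t => by rw [fix_J hN hl hv₀, zpow_zero, one_smul]⟩
  have S1 := H.str_s hirr hv₀ hφ₀ hne hs ι hc1 hcK htor
  have o1 : Occ ρ ss sl (RingHom.id K) ι (((1 + p ^ a : ℕ) : ℤ) - 2 * ((1 : ℕ) * (1 : ℕ)))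
      (0 + (1 : ℕ) * (1 : ℕ)) :=
    ⟨_, S1.cf_ne p one_ne_zero (one_mem_SS_q p ha), h1.str_s H.two ι 1 (fun x => (pow_one _).symm) (by omega)⟩
  have h2 := h1.refl_s H.two
  have S2 := H.str_ls hirr hv₀ hφ₀ hne hs ι hc1 hcK (fun t => by
    rw [h2.2 t, zero_add, zpow_natCast]; rfl)
  have o2 : Occ ρ ss sl (RingHom.id K) ι (-((1 + p ^ a : ℕ) : ℤ) + (3 : ℕ) * ((1 : ℕ) * (1 : ℕ)))
      (0 + ((1 + p ^ a : ℕ) : ℤ) - 2 * ((1 : ℕ) * (1 : ℕ))) :=
    ⟨_, S2.cf_ne p one_ne_zero (one_mem_SS_q p ha), h2.str_l H.two ι 1 (fun x => (pow_one _).symm) (by omega)⟩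
  refine twentyfour (ρ := ρ) (ss := ss) (sl := sl) (ι := ι) H.two hK (inj_short hq) (by decide +kernel) ?_ ?_
  · convert o1 using 1
    · simp only [ev]; push_cast; ring
    · simp only [ev]; push_cast; ring
  · convert o2 using 1
    · simp only [ev]; push_cast; ring
    · simp only [ev]; push_cast; ring

/-- long node, `p ≠ 3` -/
theorem long24 (hp3 : p ≠ 3) (hq : 4 ≤ p ^ a) (hs : s ∈ Jx cs h X ρ) (hl : l ∉ Jx cs h X ρ)
    (htor : ∀ t : Kˣ, ρ (sl (hh t)) v₀ = ι (t : K) ^ (1 + p ^ a) • v₀) : 24 ≤ Module.finrank k V := by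
  have hN := H.Ns
  have hcK : 3 + p ^ a * 3 ≤ Fintype.card K - 1 := by
    rw [hK, pow_two]
    have := Nat.mul_le_mul_left (p ^ a) hq
    omega
  have h1 : IsOcc ρ ss sl (RingHom.id K) ι v₀ 0 ((1 + p ^ a : ℕ) : ℤ) :=
    ⟨fun t => by rw [fix_J hN hs hv₀, zpow_zero, one_smul], fun t => by rw [htor, zpow_natCast]; rfl⟩
  have h2 := h1.refl_l H.two
  have hnd : ¬ p ∣ 3 := fun h => hp3 ((Nat.prime_dvd_prime_iff_eq hp.out Nat.prime_three).1 h)
  have S2 := H.str_sl hirr hv₀ hφ₀ hne hl ι (c := 3 + p ^ a * 3) (by omega) hcK (fun t => by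
    rw [h2.1 t]
    congr 1
    rw [← zpow_natCast]
    congr 1
    push_cast
    ring)
  have m1 : 1 ∈ SS p (3 + p ^ a * 3) := by
    refine one_mem_SS p fun h => hnd ?_
    exact (Nat.dvd_add_left ((dvd_pow_self p ha).mul_right 3)).1 h
  have m2 : p ^ a ∈ SS p (3 + p ^ a * 3) := q_mem_SS p hnd (by omega)
  have o1 : Occ ρ ss sl (RingHom.id K) ι _ _ :=
    ⟨_, S2.cf_ne p one_ne_zero m1, h2.str_s H.two ι 1 (fun x => (pow_one _).symm) (by omega)⟩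
  have o2 : Occ ρ ss sl (RingHom.id K) ι _ _ :=
    ⟨_, S2.cf_ne p (by omega) m2, h2.str_s H.two ι 1 (fun x => (pow_one _).symm) (by omega)⟩
  refine twentyfour (ρ := ρ) (ss := ss) (sl := sl) (ι := ι) H.two hK (inj_long hq) (by decide +kernel) ?_ ?_
  · convert o1 using 1
    · simp only [ev]; push_cast; ring
    · simp only [ev]; push_cast; ring
  · convert o2 using 1
    · simp only [ev]; push_cast; ring
    · simp only [ev]; push_cast; ring

/-- long node, `p = 3` -/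
theorem long24_three (hp3 : p = 3) (hs : s ∈ Jx cs h X ρ) (hl : l ∉ Jx cs h X ρ)
    (htor : ∀ t : Kˣ, ρ (sl (hh t)) v₀ = ι (t : K) ^ (1 + p ^ a) • v₀) : 24 ≤ Module.finrank k V := by
  have hN := H.Ns
  have hq : 3 ≤ p ^ a := by
    have h3 := Nat.pow_le_pow_right (n := p) (by omega) (Nat.one_le_iff_ne_zero.2 ha)
    rw [pow_one] at h3
    omega
  have hcK : 1 + p ^ a ≤ Fintype.card K - 1 := by
    rw [hK, pow_two]
    have := Nat.mul_le_mul_left (p ^ a) hq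
    omega
  have h1 : IsOcc ρ ss sl (RingHom.id K) ι v₀ 0 ((1 + p ^ a : ℕ) : ℤ) :=
    ⟨fun t => by rw [fix_J hN hs hv₀, zpow_zero, one_smul], fun t => by rw [htor, zpow_natCast]; rfl⟩
  have h2 := h1.refl_l H.two
  have hι : ∀ x, ((frobenius k p).comp ι) x = ι x ^ 3 := fun x => by
    rw [RingHom.comp_apply, frobenius_def, hp3]
  have S1 := H.str_l hirr hv₀ hφ₀ hne hl ι (by omega) hcK htor
  have S2 := H.str_sl hirr hv₀ hφ₀ hne hl ((frobenius k p).comp ι) (c := 1 + p ^ a) (by omega) hcK (fun t => by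
    rw [h2.1 t, hι]
    congr 1
    rw [← pow_mul, ← zpow_natCast]
    congr 1
    push_cast
    ring)
  have o1 : Occ ρ ss sl (RingHom.id K) ι _ _ :=
    ⟨_, S1.cf_ne p one_ne_zero (one_mem_SS_q p ha), h1.str_l H.two ι 1 (fun x => (pow_one _).symm) (by omega)⟩
  have o2 : Occ ρ ss sl (RingHom.id K) ι _ _ :=
    ⟨_, S2.cf_ne p one_ne_zero (one_mem_SS_q p ha), h2.str_s H.two _ 3 hι (by omega)⟩
  have hq4 : p ^ a ≠ 4 := by
    intro h4
    have h5 : p ∣ 4 := h4 ▸ dvd_pow_self p ha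
    rw [hp3] at h5
    omega
  refine twentyfour (ρ := ρ) (ss := ss) (sl := sl) (ι := ι) H.two hK (inj_long3 hq hq4) (by decide +kernel) ?_ ?_
  · convert o1 using 1
    · simp only [ev]; push_cast; ring
    · simp only [ev]; push_cast; ring
  · convert o2 using 1
    · simp only [ev]; push_cast; ring
    · simp only [ev]; push_cast; ring

end

end Cfsg.Agent.H744.Ppd
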