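import Cfsg.Agent.H744.Ppd.D4Inst
import Cfsg.Agent.H744.Ppd.D4Wt
import Cfsg.Agent.H744.Ppd.G2Dim
import Cfsg.Agent.S1067

/-!
# Modules of `³D₄(q₀)` in the defining characteristic (helper744)

`φ : ³D₄(q₀) → GL(ι, F)` with absolutely irreducible image, `q₀ ^ 3 = |F| ^ j`; `not_3d4` : the row `³D₄` of S5948 (task
2465).
-/

set_option autoImplicit false
set_option linter.unusedSectionVars false
set_option linter.style.haveILetI false

namespace Cfsg.Agent.H744.Ppd.D4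

open Matrix (SpecialLinearGroup)
open Cfsg Cfsg.Geo
open Cfsg.Agent.H911 (lin)
open Cfsg.Agent.H911.SLTwo Cfsg.Agent.H875.Fn
open CoxeterSystem Cfsg.Agent.ChevalleyStructure.CoxeterGeom Cfsg.Agent.Tits.Roots Cfsg.Agent.Tits.Core
  Cfsg.Agent.Tits.Exchange Cfsg.Agent.Nodes.Reps Cfsg.Agent.Nodes.BNOf Cfsg.Agent.Nodes.StabComb
  Cfsg.Agent.Nodes.Bruhat Cfsg.Agent.Nodes.OppDec Cfsg.Agent.Nodes.LeviDec Cfsg.Agent.KFacts.RgdOpp
  Cfsg.Agent.Omega.CR Cfsg.Agent.Omega.FOne.Lift.Sd Cfsg.Agent.H905.Md Cfsg.Agent.H650.Ppd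
open Cfsg.Lie Cfsg.Agent.ChevalleyStructure Cfsg.Agent.ChevalleyStructure.CoxeterGeomTypes
open Cfsg.Agent.Nodes.RGDTwD4 (isCartan)
open Cfsg.Agent.Nodes.RGDFoldSL (Fx mem_Fx)

universe u

section count

variable {W Y : Type*} [Group W] [Group Y] {cs : CoxeterSystem CoxeterMatrix.G₂ W} {p : ℕ} {T : Subgroup Y}
  {n : Fin 2 → Y} {X : (Fin 2 → ℤ) → Subgroup Y} {k V : Type*} [Field k] [AddCommGroup V] [Module k V]
  (R : RGD cs isCartan p T n X) [Finite Y] [Finite W] [Fact p.Prime] [CharP k p] {ρ : Y →* Module.End k V}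
  [FiniteDimensional k V] [Nontrivial V]
  (hirr : ∀ L : Submodule k V, Ivt ρ (GG cs isCartan T X) L → L = ⊥ ∨ L = ⊤)
include R hirr

theorem ge_one {i : Fin 2} (hi : i ∉ Jx cs isCartan X ρ) :
    6 * Module.finrank k (D cs isCartan X ρ) + 6 * Module.finrank k (Io cs isCartan T X ρ i) ≤
      Module.finrank k V := by
  fin_cases i
  · exact dim_ge_list R hirr hi [[], [0], [0, 1], [0, 1, 0], [0, 1, 0, 1], [0, 1, 0, 1, 0]]
      [[], [1], [1, 0], [1, 0, 1], [1, 0, 1, 0], [1, 0, 1, 0, 1]] (by decide +kernel) (by decide +kernel)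
  · exact dim_ge_list R hirr hi [[], [1], [1, 0], [1, 0, 1], [1, 0, 1, 0], [1, 0, 1, 0, 1]]
      [[], [0], [0, 1], [0, 1, 0], [0, 1, 0, 1], [0, 1, 0, 1, 0]] (by decide +kernel) (by decide +kernel)

end count

/-! ### the fields -/

section fields

variable {K : Type} [Field K] [Fintype K] {q : ℕ} {φ : K →+* K}

theorem card_Fx3 (hK : Fintype.card K = q ^ 3) (hφ : ∀ x, φ x = x ^ q) : Nat.card (Fx φ 3) = q ^ 3 := by
  have h1 : Fx φ 3 = ⊤ := by
    rw [eq_top_iff]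
    intro x _
    rw [mem_Fx]
    exact Cfsg.Agent.H249.PPTwD4.phi3 hK hφ x
  rw [h1, ← hK, ← Nat.card_eq_fintype_card]
  exact Nat.card_congr Subfield.topEquiv.toEquiv

theorem card_Fx1 (hq : 1 < q) (hK : Fintype.card K = q ^ 3) (hφ : ∀ x, φ x = x ^ q) : Nat.card (Fx φ 1) = q := by
  have h1 := FixedCard.card_fixed (K := K) hq hK
  rw [← h1]
  refine Nat.card_congr (Equiv.subtypeEquivRight fun x => ?_)
  rw [mem_Fx, Function.iterate_one, hφ]

/-- `t ^ |K| = t` on the torus -/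
theorem T_pow (t : ↥(twistedD4 K q)) (ht : t ∈ Nodes.RGDTwD4.T K q) : t ^ Fintype.card K = t := by
  have ht' : (t : GL chevD4.Idx K) ∈ chevD4.diagonalSubgroup K := (Subgroup.mem_subgroupOf.1 ht).1
  obtain ⟨χ, h1⟩ := ChevalleyStructure.HMatDiagAll.mem_torus.1
    (ChevalleyStructure.HMatDiagAll.diagonalSubgroup_le_torus Nodes.RGDTwD4.hp.inList ht')
  apply Subtype.ext
  apply Units.ext
  rw [Subgroup.coe_pow, Units.val_pow_eq_pow_val, h1, Matrix.diagonal_pow]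
  congr 1
  funext i
  rw [Pi.pow_apply, FiniteField.pow_card]

end fields

/-! ### numbers -/

theorem geom_split (Q j : ℕ) : (1 + Q ^ j + (Q ^ j) ^ 2) * ∑ l ∈ Finset.range j, Q ^ l =
    ∑ l ∈ Finset.range (3 * j), Q ^ l := by
  have h1 : 3 * j = j + (j + j) := by ring
  rw [h1, Finset.sum_range_add, Finset.sum_range_add]
  simp only [pow_add, ← Finset.mul_sum]
  ring

theorem geom_bd {Q j r : ℕ} (hQ : 1 ≤ Q) (hr : r < Q) : r * ∑ l ∈ Finset.range j, Q ^ l ≤ Q ^ j - 1 := by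
  have h1 : (∑ l ∈ Finset.range j, Q ^ l) * (Q - 1) + 1 = Q ^ j := by
    induction j with
    | zero => simp
    | succ j ih =>
      rw [Finset.sum_range_succ, add_mul, pow_succ]
      obtain ⟨Q', rfl⟩ : ∃ Q', Q = Q' + 1 := ⟨Q - 1, by omega⟩
      rw [Nat.add_sub_cancel] at ih ⊢
      nlinarith
  have h2 : r * ∑ l ∈ Finset.range j, Q ^ l ≤ (Q - 1) * ∑ l ∈ Finset.range j, Q ^ l :=
    Nat.mul_le_mul_right _ (by omega)
  rw [mul_comm (Q - 1)] at h2
  omega

/-! ### linear groups -/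

section main

/-- the Coxeter system -/
local notation "cs4" => CoxeterMatrix.toCoxeterSystem CoxeterMatrix.G₂

variable {F : Type u} [Field F] [Finite F] {ι : Type} [Fintype ι] [DecidableEq ι] [Nonempty ι]
  {P : Subgroup (Matrix.GeneralLinearGroup ι F)}
  (p : ℕ) [hp : Fact p.Prime] [CharP F p] {K : Type} [Field K] [Fintype K] [CharP K p] {q : ℕ} {φ : K →+* K}
  (hK : Fintype.card K = q ^ 3) (hφ : ∀ x, φ x = x ^ q)
  {θ : ↥(twistedD4 K q) →* Matrix.GeneralLinearGroup ι F} (hθ : θ.range = P)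
  (hP : ActsAbsolutelyIrreducibly (matrixSet P))

/-- the root groups -/
local notation "Jn" => Jx cs4 isCartan (Nodes.RGDTwD4.X φ q) (lin (acRep θ))

include hK hφ in
theorem GG4 : GG cs4 isCartan (Nodes.RGDTwD4.T K q) (Nodes.RGDTwD4.X φ q) = ⊤ :=
  KFacts.RgdRigid.GG_eq_top (Nodes.RGDTwD4.G1_eq_top cs4 hK hφ)

include p hK hφ hθ hP

theorem exists_node (h2 : 2 ≤ Fintype.card ι) : (1 : Fin 2) ∉ Jn ∨ ((1 : Fin 2) ∈ Jn ∧ (0 : Fin 2) ∉ Jn) := by
  have : Finite CoxeterMatrix.G₂.Group := Cfsg.Agent.H249.PPTwD4.finiteW cs4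
  have hchar : CharP (AlgebraicClosure F) p := charP_of_injective_algebraMap (algebraMap F _).injective p
  have hirr := ac_irr (Nodes.RGDTwD4.rgd cs4 hK hφ p) (GG4 hK hφ) Cfsg.Agent.H249.PPTwD4.T_comm hθ hP
  have hD := finrank_D (Nodes.RGDTwD4.rgd cs4 hK hφ p) hirr Cfsg.Agent.H249.PPTwD4.T_comm
  obtain ⟨i, hi⟩ := exists_not_mem (Nodes.RGDTwD4.rgd cs4 hK hφ p) hirr (by
    rw [hD, Module.finrank_fintype_fun_eq_card]; omega)
  by_cases h1 : (1 : Fin 2) ∈ Jn
  · right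
    refine ⟨h1, ?_⟩
    fin_cases i
    · exact hi
    · exact absurd h1 hi
  · exact Or.inl h1

/-- a bound from an edge -/
theorem edge_ge {i : Fin 2} (hi : i ∉ Jn) {d : ℕ}
    (hd : d ≤ Module.finrank (AlgebraicClosure F) (Le cs4 isCartan (Nodes.RGDTwD4.T K q) (Nodes.RGDTwD4.X φ q)
      (lin (acRep θ)) {i})) : 6 * d ≤ Fintype.card ι + 6 := by
  have : Finite CoxeterMatrix.G₂.Group := Cfsg.Agent.H249.PPTwD4.finiteW cs4
  have hchar : CharP (AlgebraicClosure F) p := charP_of_injective_algebraMap (algebraMap F _).injective p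
  have hirr := ac_irr (Nodes.RGDTwD4.rgd cs4 hK hφ p) (GG4 hK hφ) Cfsg.Agent.H249.PPTwD4.T_comm hθ hP
  have hD := finrank_D (Nodes.RGDTwD4.rgd cs4 hK hφ p) hirr Cfsg.Agent.H249.PPTwD4.T_comm
  have h3 := ge_one (Nodes.RGDTwD4.rgd cs4 hK hφ p) hirr hi
  have h4 := finrank_Io (Nodes.RGDTwD4.rgd cs4 hK hφ p) hirr i
  rw [hD, Module.finrank_fintype_fun_eq_card] at h3
  rw [hD] at h4
  omega

/-- the short node -/
theorem short_ge (hi : (1 : Fin 2) ∉ Jn) {a f s : ℕ} (hF : Nat.card F = p ^ a) (hE : q ^ 3 = p ^ f)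
    (hs : s * Nat.gcd a f = f) : 6 * 2 ^ s ≤ Fintype.card ι + 6 := by
  have : Finite CoxeterMatrix.G₂.Group := Cfsg.Agent.H249.PPTwD4.finiteW cs4
  have := Fintype.ofFinite (Fx φ 3)
  obtain ⟨m, hm, h5⟩ := edge_pow (Nodes.RGDTwD4.rgd cs4 hK hφ p) (GG4 hK hφ) Cfsg.Agent.H249.PPTwD4.T_comm hθ hP
    (nd_ss hK hφ cs4 p) hi hF (by rw [card_Fx3 hK hφ]; exact hE) hs
  refine edge_ge p hK hφ hθ hP hi ?_
  rw [h5]
  exact Nat.pow_le_pow_left hm s

/-- the long node -/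
theorem long_ge (hq : 1 < q) (hi : (0 : Fin 2) ∉ Jn) {a f s : ℕ} (hF : Nat.card F = p ^ a) (hE : q = p ^ f)
    (hs : s * Nat.gcd a f = f) : 6 * 2 ^ s ≤ Fintype.card ι + 6 := by
  have : Finite CoxeterMatrix.G₂.Group := Cfsg.Agent.H249.PPTwD4.finiteW cs4
  have := Fintype.ofFinite (Fx φ 1)
  obtain ⟨m, hm, h5⟩ := edge_pow (Nodes.RGDTwD4.rgd cs4 hK hφ p) (GG4 hK hφ) Cfsg.Agent.H249.PPTwD4.T_comm hθ hP
    (nd_sl hK hφ cs4 p) hi hF (by rw [card_Fx1 hq hK hφ]; exact hE) hs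
  refine edge_ge p hK hφ hθ hP hi ?_
  rw [h5]
  exact Nat.pow_le_pow_left hm s

/-- the long node alone -/
theorem long_ge' (hq : 1 < q) (h1 : (1 : Fin 2) ∈ Jn) (h0 : (0 : Fin 2) ∉ Jn) {a j : ℕ} (ha : a ≠ 0) (hj : j ≠ 0)
    (hF : Nat.card F = p ^ a) (hE : q = p ^ (a * j)) :
    8 ^ j ≤ Fintype.card ι ∧ (j = 1 → 3 ≤ Nat.card F → 24 ≤ Fintype.card ι) := by
  have : Finite CoxeterMatrix.G₂.Group := Cfsg.Agent.H249.PPTwD4.finiteW cs4
  have i1 := Fintype.ofFinite (Fx φ 1)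
  have i3 := Fintype.ofFinite (Fx φ 3)
  have c1 : Fintype.card (Fx φ 1) = q := by rw [← Nat.card_eq_fintype_card]; exact card_Fx1 hq hK hφ
  have c3 : Fintype.card (Fx φ 3) = q ^ 3 := by rw [← Nat.card_eq_fintype_card]; exact card_Fx3 hK hφ
  have hchar : CharP (AlgebraicClosure F) p := charP_of_injective_algebraMap (algebraMap F _).injective p
  have R := Nodes.RGDTwD4.rgd (K := K) cs4 hK hφ p
  have H := hx_d4 hK hφ cs4 p
  have hirr := ac_irr R (GG4 hK hφ) Cfsg.Agent.H249.PPTwD4.T_comm hθ hP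
  have hfin : Module.finrank (AlgebraicClosure F) (ι → AlgebraicClosure F) = Fintype.card ι :=
    Module.finrank_fintype_fun_eq_card _
  obtain ⟨c, hc, hc0, χ, hχ⟩ := exists_chi R hirr Cfsg.Agent.H249.PPTwD4.T_comm
  obtain ⟨ι₀⟩ := Cfsg.Agent.H875.Psl2.exists_emb F (Fx φ 3) p
  have hgcd : Nat.gcd a (a * j) = a := Nat.gcd_eq_left (Dvd.intro j rfl)
  obtain ⟨r₀, hr0, hrlt, hr, -⟩ := edge_data R (GG4 hK hφ) Cfsg.Agent.H249.PPTwD4.T_comm hθ hP
    (nd_sl hK hφ cs4 p) h0 hF (by rw [card_Fx1 hq hK hφ]; exact hE) (s := j) (by rw [hgcd, mul_comm])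
    (ι₀.comp (incl φ)) hc hc0 hχ
  rw [hgcd] at hrlt hr
  obtain ⟨φ₀, hφ₀, hne⟩ := exists_pair_D R hirr hc hc0
  have hQ1 : 1 ≤ p ^ a := Nat.one_le_pow _ _ hp.out.pos
  have hqj : q = (p ^ a) ^ j := by rw [hE, pow_mul]
  set b : ℕ := r₀ * ∑ l ∈ Finset.range j, (p ^ a) ^ l with hb
  set cS : ℕ := r₀ * ∑ l ∈ Finset.range (3 * j), (p ^ a) ^ l with hcS
  have hbc : cS = (1 + q + q ^ 2) * b := by
    rw [hcS, hb, ← geom_split, hqj]
    ring
  have htor0 : ∀ t : (Fx φ 1)ˣ, lin (acRep θ) (sl hK hφ (hh t)) c = ι₀ (incl φ (t : Fx φ 1)) ^ b • c := fun t => by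
    rw [hχ _ ((nd_sl hK hφ cs4 p).tor t), hr t]
    rfl
  have h3 : IsOcc (lin (acRep θ)) (ss hK hφ) (sl hK hφ) (incl φ) ι₀ c 0 (b : ℤ) :=
    ⟨fun t => by rw [fix_J H.Ns h1 hc, zpow_zero, one_smul], fun t => by rw [htor0, zpow_natCast]⟩
  have h4 := h3.refl_l H.two
  have hcS1 : 1 ≤ cS := by
    rw [hbc]
    have hb1 : b ≠ 0 := by
      rw [hb]
      refine Nat.mul_ne_zero hr0 ?_
      have h5 : 1 ≤ ∑ l ∈ Finset.range j, (p ^ a) ^ l := by
        rw [← pow_zero (p ^ a)]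
        exact Finset.single_le_sum (f := fun l => (p ^ a) ^ l) (fun _ _ => Nat.zero_le _)
          (Finset.mem_range.2 (Nat.pos_of_ne_zero hj))
      omega
    exact Nat.one_le_iff_ne_zero.2 (Nat.mul_ne_zero (by omega) hb1)
  have hcS2 : cS ≤ Fintype.card (Fx φ 3) - 1 := by
    rw [c3, hqj, ← pow_mul, mul_comm j 3]
    exact geom_bd hQ1 hrlt
  have S := H.str_sl hirr hc hφ₀ hne h0 ι₀ hcS1 hcS2 (fun t => by
    rw [h4.1 t]
    congr 1
    rw [← zpow_natCast, hbc]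
    congr 1
    push_cast
    ring)
  have h5 := S.dim_le p
  rw [card_SS_geom hrlt, hfin] at h5
  have h6 := two_le_card_SS (p := p) hr0
  refine ⟨?_, ?_⟩
  · have h7 := Nat.pow_le_pow_left h6 (3 * j)
    rw [pow_mul] at h7
    exact h7.trans h5
  · rintro rfl hF3
    rcases h6.eq_or_lt with h7 | h7
    · obtain ⟨e, he⟩ := Cfsg.Agent.H875.Psl2.eq_pow_of_card_two p h7.symm
      rw [pow_one] at hqj
      rw [← hfin]
      have H' : Hx R 1 0 (ss hK hφ) (sl hK hφ) (incl φ) (nrm φ) (1 + p ^ a + (p ^ a) ^ 2) := by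
        rw [← hqj]; exact H
      refine long24_d4 H' hirr hc hφ₀ hne ((iterateFrobenius (AlgebraicClosure F) p e).comp ι₀) ha (by rw [c3, hqj])
        (by rw [c1, hqj]) (by rw [← hF]; exact hF3) h1 h0 (fun t => ?_)
      rw [htor0, hb, Finset.sum_range_one, pow_zero, mul_one, he, RingHom.comp_apply, iterateFrobenius_def]
    · have h8 : 3 ^ 3 ≤ _ := Nat.pow_le_pow_left h7 (3 * 1)
      omega

end main

/-! ### the row -/

section row

open Cfsg.Agent.H915.LD Cfsg.Agent.H100.Ppd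

variable {n k m : ℕ} {F : Type u} [Field F] [Finite F] {P : Subgroup (Matrix.GeneralLinearGroup (Fin n) F)}

/-- `k ∣ 4 j` -/
theorem dvd_of_prime {q n k m : ℕ} (h : Num q n k m) {r : ℕ} (hr : r.Prime) (hrm : r ∣ m) {j Q : ℕ}
    (hQ : q ^ j = Q ^ 3) (hd : r ∣ Q ^ 12 * (Q ^ 2 - 1) * (Q ^ 6 - 1) * (Q ^ 8 + Q ^ 4 + 1)) : k ∣ 4 * j := by
  have : Fact r.Prime := ⟨hr⟩
  rw [← h.pow_eq_one_iff hr hrm]
  have hq := h.one_lt_q
  have hrQ : ¬ r ∣ Q := fun h1 => by
    have h2 : r ∣ q ^ j := by rw [hQ]; exact dvd_pow h1 (by norm_num)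
    exact h.not_dvd_q hr hrm (hr.dvd_of_dvd_pow h2)
  have hQ0 : 0 < Q := Nat.pos_of_ne_zero fun h0 => hrQ (h0 ▸ dvd_zero r)
  have hmain : (Q : ZMod r) ^ 12 = 1 := by
    have key : ∀ i : ℕ, r ∣ Q ^ i - 1 → (Q : ZMod r) ^ i = 1 := by
      intro i hi
      have h2 : 1 ≤ Q ^ i := Nat.one_le_pow _ _ hQ0
      rwa [← ZMod.natCast_eq_zero_iff, Nat.cast_sub h2, Nat.cast_pow, Nat.cast_one, sub_eq_zero] at hi
    rcases (Nat.Prime.dvd_mul hr).1 hd with h2 | h2
    · rcases (Nat.Prime.dvd_mul hr).1 h2 with h3 | h3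
      · rcases (Nat.Prime.dvd_mul hr).1 h3 with h4 | h4
        · exact absurd (hr.dvd_of_dvd_pow h4) hrQ
        · have := key 2 h4
          rw [show 12 = 2 * 6 from rfl, pow_mul, this, one_pow]
      · have := key 6 h3
        rw [show 12 = 6 * 2 from rfl, pow_mul, this, one_pow]
    · rw [← ZMod.natCast_eq_zero_iff] at h2
      push_cast at h2
      linear_combination ((Q : ZMod r) ^ 4 - 1) * h2
  have h3 : (q : ZMod r) ^ (4 * j) = (Q : ZMod r) ^ 12 := by
    rw [mul_comm 4 j, pow_mul]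
    have h4 : ((q : ZMod r)) ^ j = (Q : ZMod r) ^ 3 := by
      rw [← Nat.cast_pow, hQ, Nat.cast_pow]
    rw [h4, ← pow_mul]
  rw [h3, hmain]

/-- `q = 2`, `k = 6` -/
theorem kill_six {n m : ℕ} (h : Num 2 n 6 m) : False := by
  have h1 := h.dvd
  have h2 := h.cop 2 (by norm_num) (by norm_num)
  have h3 := h.cop 3 (by norm_num) (by norm_num)
  have h4 : m ∣ 3 * (3 * 7) := by
    norm_num at h1 ⊢
    exact h1
  have h5 : Nat.Coprime m 3 := by norm_num at h2; exact h2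
  have h6 : Nat.Coprime m 7 := by norm_num at h3; exact h3
  have h7 := (Nat.Coprime.mul_right h5 (Nat.Coprime.mul_right h5 h6)).eq_one_of_dvd h4
  have h8 := h.mlt
  omega

theorem pow8 (j : ℕ) (hj : 2 ≤ j) : 24 * j ≤ 8 ^ j := by
  induction j, hj using Nat.le_induction with
  | base => norm_num
  | succ j hj ih => rw [pow_succ]; omega

theorem pow2 (j : ℕ) (hj : 2 ≤ j) : 8 * j + 6 ≤ 6 * 2 ^ j := by
  induction j, hj using Nat.le_induction with
  | base => norm_num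
  | succ j hj ih => rw [pow_succ]; omega

theorem pow86 (j : ℕ) (hj : 1 ≤ j) : 24 * j + 6 ≤ 6 * 8 ^ j := by
  induction j, hj using Nat.le_induction with
  | base => norm_num
  | succ j hj ih => rw [pow_succ]; omega

/-- **Task 2465.** -/
theorem not_3d4 (h : Row k m P) (hg : ∃ r, r.Prime ∧ r ∣ m ∧ r ∣ Nat.card (Soc P)) {p : ℕ} [hp : Fact p.Prime]
    [CharP F p] {K : Type} [Field K] [Fintype K] [CharP K p] {q₀ : ℕ} (hq : IsPrimePow q₀)
    (hK : Fintype.card K = q₀ ^ 3) (e : Soc P ≃* Lie.twistedD4 K q₀) : False := by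
  have hC := h.core
  have hn10 := h.num.ten
  have hnlt := h.num.nlt
  obtain ⟨f⟩ := Cfsg.Agent.H48.DsChev.d4_equiv hC hq hK e
  obtain ⟨φ, hφ⟩ := D4Fixed.exists_frob hq hK
  have hq1 : 1 < q₀ := hq.one_lt
  obtain ⟨aK, -, haK⟩ := FiniteField.card K p
  have hne : Nonempty (Fin n) := hC.nonempty
  have h2 : 2 ≤ Fintype.card (Fin n) := by rw [Fintype.card_fin]; omega
  have hθ : (P.subtype.comp f.symm.toMonoidHom).range = P := by
    rw [MonoidHom.range_comp, MonoidHom.range_eq_top.2 f.symm.surjective, ← MonoidHom.range_eq_map,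
      Subgroup.range_subtype]
  have : Finite CoxeterMatrix.G₂.Group := Cfsg.Agent.H249.PPTwD4.finiteW CoxeterMatrix.G₂.toCoxeterSystem
  obtain ⟨j, hj1, hj⟩ := card_pow_eq p aK.ne_zero (fun x => pow_eq_of_no_subfield hC.absIrred hC.no_subfield p aK
    (fun g hg => trace_pow (Nodes.RGDTwD4.rgd CoxeterMatrix.G₂.toCoxeterSystem hK hφ p) (GG4 hK hφ)
      Cfsg.Agent.H249.PPTwD4.T_comm hθ hC.absIrred (fun t ht => by rw [← haK]; exact T_pow t ht) hg) x)
  have hjq : Nat.card F ^ j = q₀ ^ 3 := by rw [hj, ← haK, hK]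
  obtain ⟨r, hr, hrm, hrd⟩ := hg
  rw [Nat.card_congr e.toEquiv, Cfsg.Agent.S1067.result hq hK] at hrd
  have hk := dvd_of_prime h.num hr hrm hjq hrd
  have hk' := Nat.le_of_dvd (by omega) hk
  obtain ⟨a, ha0, ha⟩ : ∃ a : ℕ, a ≠ 0 ∧ Nat.card F = p ^ a := by
    have := Fintype.ofFinite F
    obtain ⟨a, -, ha⟩ := FiniteField.card F p
    exact ⟨a, a.ne_zero, by rw [Nat.card_eq_fintype_card, ha]⟩
  obtain ⟨g, -, hgq⟩ := (Nat.dvd_prime_pow hp.out).1 (show q₀ ∣ p ^ (aK : ℕ) by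
    rw [← haK, hK]; exact dvd_pow_self q₀ (by norm_num))
  have hag : a * j = 3 * g := by
    have h3 : p ^ (a * j) = p ^ (3 * g) := by
      rw [pow_mul, ← ha, hjq, hgq, ← pow_mul, mul_comm]
    exact Nat.pow_right_injective hp.out.two_le h3
  have hnode := exists_node p hK hφ hθ hC.absIrred h2
  by_cases h3 : 3 ∣ j
  · obtain ⟨j', rfl⟩ := h3
    have hj' : 1 ≤ j' := by omega
    have hg' : g = a * j' := by
      have : a * (3 * j') = 3 * (a * j') := by ring
      omega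
    rcases hnode with h1 | ⟨h1, h0⟩
    · have h4 := short_ge p hK hφ hθ hC.absIrred h1 ha (f := a * (3 * j')) (by rw [hag, hgq, ← pow_mul, mul_comm])
        (s := 3 * j') (by rw [Nat.gcd_eq_left (Dvd.intro (3 * j') rfl), mul_comm])
      rw [Fintype.card_fin, pow_mul] at h4
      have h5 := pow86 j' hj'
      norm_num at h4
      omega
    · obtain ⟨h4, h5⟩ := long_ge' p hK hφ hθ hC.absIrred hq1 h1 h0 ha0 (j := j') (by omega) ha (by rw [hgq, hg'])
      rw [Fintype.card_fin] at h4 h5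
      rcases hj'.eq_or_lt with h6 | h6
      · rcases (show Nat.card F = 2 ∨ 3 ≤ Nat.card F by have := h.num.one_lt_q; omega) with h7 | h7
        · rw [← h6] at hk hk'
          have h8 : k = 6 ∨ k = 12 := by
            have h9 := h.num.six_le
            obtain ⟨x, hx⟩ := hk
            have hx2 : x = 1 ∨ x = 2 := by
              rcases Nat.lt_or_ge x 3 with h10 | h10
              · interval_cases x
                · omega
                · exact Or.inl rfl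
                · exact Or.inr rfl
              · have h11 : k * 3 ≤ k * x := Nat.mul_le_mul_left k h10
                omega
            rcases hx2 with rfl | rfl
            · right; omega
            · left; omega
          rcases h8 with rfl | h8
          · have h9 := h.num
            rw [h7] at h9
            exact kill_six h9
          · exact G2.kill_four h.num h7 h8
        · have h8 := h5 h6.symm h7
          omega
      · have h7 := pow8 j' h6
        omega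
  · have h4 : 3 ∣ a := by
      have h5 : 3 ∣ a * j := ⟨g, hag⟩
      exact (Nat.prime_three.dvd_mul.1 h5).resolve_right h3
    obtain ⟨a', rfl⟩ := h4
    have hg' : g = a' * j := by
      have : 3 * a' * j = 3 * (a' * j) := by ring
      omega
    have hj2 : 2 ≤ j := by
      by_contra hcon
      have : j = 1 := by omega
      subst this
      omega
    have h5 : 6 * 2 ^ j ≤ Fintype.card (Fin n) + 6 := by
      rcases hnode with h1 | ⟨-, h0⟩
      · exact short_ge p hK hφ hθ hC.absIrred h1 ha (f := 3 * a' * j) (by rw [hag, hgq, ← pow_mul, mul_comm])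
          (s := j) (by rw [Nat.gcd_eq_left (Dvd.intro j rfl), mul_comm])
      · refine long_ge p hK hφ hθ hC.absIrred hq1 h0 ha (f := a' * j) (by rw [hgq, hg']) (s := j) ?_
        have h6 : Nat.gcd (3 * a') (a' * j) = a' := by
          rw [mul_comm 3 a', Nat.gcd_mul_left, show Nat.gcd 3 j = 1 from (Nat.Prime.coprime_iff_not_dvd Nat.prime_three).2 h3, mul_one]
        rw [h6, mul_comm]
    rw [Fintype.card_fin] at h5
    have h6 := pow2 j hj2
    omega

end row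

end Cfsg.Agent.H744.Ppd.D4
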