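import Cfsg.Agent.H744.Ppd.Inst
import Cfsg.Agent.Nodes.RGDTwNode
import Cfsg.Agent.H249.PPTwD4

/-!
# The rank one groups of `³D₄(q)` (helper744)

`sl` : `SL₂(Fix φ) → ³D₄(q)` (long node `0`), `ss` : `SL₂(Fix φ³) → ³D₄(q)` (short node `1`); `hx_d4`.
-/

set_option autoImplicit false
set_option linter.unusedSectionVars false
set_option linter.style.haveILetI false
set_option maxHeartbeats 400000

namespace Cfsg.Agent.H744.Ppd.D4

open Matrix (SpecialLinearGroup)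
open Cfsg.Agent.H911.SLTwo Cfsg.Agent.H875.Fn
open CoxeterSystem Cfsg.Agent.ChevalleyStructure.CoxeterGeom Cfsg.Agent.Tits.Roots Cfsg.Agent.Tits.Core
  Cfsg.Agent.Tits.Exchange Cfsg.Agent.Nodes.Reps Cfsg.Agent.Nodes.BNOf Cfsg.Agent.Nodes.RGDChev
  Cfsg.Agent.Nodes.RGDFold Cfsg.Agent.Nodes.RGDFoldSL Cfsg.Agent.H905.Md Cfsg.Agent.H650.Ppd
open Cfsg.Lie Cfsg.Agent.ChevalleyStructure Cfsg.Agent.ChevalleyStructure.Elts
  Cfsg.Agent.ChevalleyStructure.NPerm Cfsg.Agent.ChevalleyStructure.CoxeterGeomTypes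
open Cfsg.Agent.ChevalleyStructure.SL2Hom (up lo)
open Cfsg.Agent.Nodes.RGDTwD4 (J L A isCartan foldData hp rho eps foldGrp)
open Cfsg.Agent.Nodes.RGDTwNode.D4 (rep rest nodeOK eps_one)
open Cfsg.Agent.ChevalleyStructure.D4Fixed (sig)

variable {K : Type} [Field K] [Fintype K] {q : ℕ} {φ : K →+* K}

theorem N0 : NodeOK chevD4 J L rho 0 14 [] := nodeOK 0
theorem N1 : NodeOK chevD4 J L rho 1 18 [13, 12] := nodeOK 1

/-- the field automorphism with signs -/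
def ff (φ : K →+* K) : ℕ → K → K := fun r t => ((eps r : ℤ) : K) * φ t

theorem hf0 : ∀ s ∈ [14], ∀ t : K, ff φ s t = φ t := fun s hs t => by
  unfold ff
  rw [eps_one 0 s hs, Int.cast_one, one_mul]

theorem hf1 : ∀ s ∈ [18, 13, 12], ∀ t : K, ff φ s t = φ t := fun s hs t => by
  unfold ff
  rw [eps_one 1 s hs, Int.cast_one, one_mul]

theorem nr : chevD4.nroots = 24 := by decide +kernel

theorem simp_tab : chevD4.simple ((0 : Fin 4) : ℕ) = 18 ∧ chevD4.simple ((1 : Fin 4) : ℕ) = 14 ∧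
    chevD4.simple ((2 : Fin 4) : ℕ) = 13 ∧ chevD4.simple ((3 : Fin 4) : ℕ) = 12 ∧ chevD4.neg 14 = 9 ∧
    chevD4.neg 18 = 5 ∧ chevD4.neg 13 = 10 ∧ chevD4.neg 12 = 11 := by decide +kernel

theorem cart_tab : (chevD4.cartan ((1 : Fin 4) : ℕ) 18 = -1 ∧ chevD4.cartan ((1 : Fin 4) : ℕ) 13 = -1 ∧
    chevD4.cartan ((1 : Fin 4) : ℕ) 12 = -1) ∧ (chevD4.cartan ((1 : Fin 4) : ℕ) 5 = 1 ∧
    chevD4.cartan ((1 : Fin 4) : ℕ) 10 = 1 ∧ chevD4.cartan ((1 : Fin 4) : ℕ) 11 = 1) ∧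
    (chevD4.cartan ((0 : Fin 4) : ℕ) 14 = -1 ∧ chevD4.cartan ((2 : Fin 4) : ℕ) 14 = -1 ∧
    chevD4.cartan ((3 : Fin 4) : ℕ) 14 = -1) ∧ (chevD4.cartan ((0 : Fin 4) : ℕ) 9 = 1 ∧
    chevD4.cartan ((2 : Fin 4) : ℕ) 9 = 1 ∧ chevD4.cartan ((3 : Fin 4) : ℕ) 9 = 1) := by decide +kernel

theorem U_eq_up {E : Type*} [Field E] (t : E) : U t = up t := rfl
theorem Lo_eq_lo {E : Type*} [Field E] (t : E) : Lo t = lo t := rfl

/-- the inclusion of the fields -/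
def incl (φ : K →+* K) : Fx φ 1 →+* Fx φ 3 :=
  ((Fx φ 1).subtype).codRestrict (Fx φ 3) fun a => by
    have h1 : φ (a : K) = a := mem_Fx.1 a.2
    rw [mem_Fx]
    show φ (φ (φ (a : K))) = a
    rw [h1, h1, h1]

theorem coe_incl (a : Fx φ 1) : ((incl φ a : Fx φ 3) : K) = a := rfl

/-- the norm -/
def nrm (φ : K →+* K) (t : (Fx φ 3)ˣ) : (Fx φ 1)ˣ :=
  Units.mk0 ⟨((t : Fx φ 3) : K) * φ ((t : Fx φ 3) : K) * φ (φ ((t : Fx φ 3) : K)), by
    rw [mem_Fx]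
    have h1 : φ (φ (φ ((t : Fx φ 3) : K))) = (t : Fx φ 3) := mem_Fx.1 (t : Fx φ 3).2
    show φ _ = _
    rw [map_mul, map_mul, h1]
    ring⟩ (by
    intro h0
    have h1 : ((t : Fx φ 3) : K) ≠ 0 := fun h => t.ne_zero (Subtype.ext h)
    have h2 := congrArg (Subtype.val) h0
    have h3 : ((t : Fx φ 3) : K) * φ ((t : Fx φ 3) : K) * φ (φ ((t : Fx φ 3) : K)) = 0 := h2
    have h4 : φ ((t : Fx φ 3) : K) ≠ 0 := (map_ne_zero φ).2 h1
    exact mul_ne_zero (mul_ne_zero h1 h4) ((map_ne_zero φ).2 h4) h3)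

theorem coe_nrm (t : (Fx φ 3)ˣ) : (((nrm φ t : (Fx φ 1)ˣ) : Fx φ 1) : K) =
    ((t : Fx φ 3) : K) * φ ((t : Fx φ 3) : K) * φ (φ ((t : Fx φ 3) : K)) := rfl

/-- conjugation by `h_i(t)` -/
theorem cj (i : Fin 4) {r s : ℕ} (hs : chevD4.simple (i : ℕ) = s) (hr : r < 24) {t : K} (ht : t ≠ 0) {e : ℤ}
    (he : chevD4.cartan (i : ℕ) r = e) (u : K) :
    hG hp.inList s t * xG hp.inList r u = xG hp.inList r (t ^ e * u) * hG hp.inList s t := by
  have h1 := Cfsg.Agent.OddHalf.LongSL.Chev.conj_hG hp K i (s := r) (by rw [nr]; exact hr) t ht u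
  rw [hs, he] at h1
  exact mul_inv_eq_iff_eq_mul.1 h1

/-- conjugation of a product of three root elements -/
theorem mul3 {Γ : Type*} [Group Γ] {g a b c a' b' c' : Γ} (h1 : g * a = a' * g) (h2 : g * b = b' * g)
    (h3 : g * c = c' * g) : g * (a * (b * c)) = a' * (b' * c') * g := by
  rw [← mul_assoc, h1, mul_assoc, ← mul_assoc g, h2, mul_assoc b', h3]
  simp only [mul_assoc]

/-- conjugation by a product of three elements -/
theorem mul3' {Γ : Type*} [Group Γ] {g g' g'' a b c d : Γ} (h1 : g * c = d * g) (h2 : g' * b = c * g')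
    (h3 : g'' * a = b * g'') : g * (g' * g'') * a = d * (g * (g' * g'')) := by
  calc g * (g' * g'') * a = g * (g' * (g'' * a)) := by simp only [mul_assoc]
    _ = g * (g' * b * g'') := by rw [h3]; simp only [mul_assoc]
    _ = g * c * g' * g'' := by rw [h2]; simp only [mul_assoc]
    _ = _ := by rw [h1]; simp only [mul_assoc]

theorem coe_inv_E (t : (Fx φ 1)ˣ) : ((incl φ (t : Fx φ 1))⁻¹ : Fx φ 3) = (((t : Fx φ 1) : K)⁻¹ : K) := rfl

variable (hK : Fintype.card K = q ^ 3) (hφ : ∀ x, φ x = x ^ q)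
include hK hφ

theorem FG : FoldGrp hp K J L (sig φ) rho (fun r => rho (rho r)) (ff φ) (twistedD4 K q) :=
  foldGrp hφ (D4Fixed.twisted_le_fix hK hφ)

/-- the long node -/
noncomputable def sl : SpecialLinearGroup (Fin 2) (Fx φ 1) →* ↥(twistedD4 K q) :=
  Phi (r := 14) (o := []) (FG hK hφ) N0 hf0

/-- the short node -/
noncomputable def ss : SpecialLinearGroup (Fin 2) (Fx φ 3) →* ↥(twistedD4 K q) :=
  Phi (r := 18) (o := [13, 12]) (FG hK hφ) N1 hf1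

theorem coe_sl (g : SpecialLinearGroup (Fin 2) (Fx φ 1)) : ((sl hK hφ g : ↥(twistedD4 K q)) : GL chevD4.Idx K) =
    psi hp.inList K 14 (SpecialLinearGroup.map (Fx φ 1).subtype g) * 1 := rfl

theorem coe_ss (g : SpecialLinearGroup (Fin 2) (Fx φ 3)) : ((ss hK hφ g : ↥(twistedD4 K q)) : GL chevD4.Idx K) =
    psi hp.inList K 18 (SpecialLinearGroup.map (Fx φ 3).subtype g) *
      (psi hp.inList K 13 (SpecialLinearGroup.map φ (SpecialLinearGroup.map (Fx φ 3).subtype g)) *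
        (psi hp.inList K 12 (SpecialLinearGroup.map φ (SpecialLinearGroup.map φ
          (SpecialLinearGroup.map (Fx φ 3).subtype g))) * 1)) := rfl

theorem coe_sl_U (t : Fx φ 1) : ((sl hK hφ (U t) : ↥(twistedD4 K q)) : GL chevD4.Idx K) =
    xG hp.inList 14 (t : K) := by
  rw [coe_sl, U_eq_up, map_up, psi_up hp.inList (by rw [nr]; norm_num), mul_one]
  rfl

theorem coe_sl_Lo (t : Fx φ 1) : ((sl hK hφ (Lo t) : ↥(twistedD4 K q)) : GL chevD4.Idx K) =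
    xG hp.inList 9 (t : K) := by
  rw [coe_sl, Lo_eq_lo, map_lo, psi_lo hp.inList (by rw [nr]; norm_num), mul_one, simp_tab.2.2.2.2.1]
  rfl

theorem coe_sl_hh (t : (Fx φ 1)ˣ) : ((sl hK hφ (hh t) : ↥(twistedD4 K q)) : GL chevD4.Idx K) =
    hG hp.inList 14 ((t : Fx φ 1) : K) := by
  rw [coe_sl, hh_eq_hS, map_hS, psi_hS hp.inList (by rw [nr]; norm_num), mul_one]
  rfl

theorem coe_ss_U (t : Fx φ 3) : ((ss hK hφ (U t) : ↥(twistedD4 K q)) : GL chevD4.Idx K) =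
    xG hp.inList 18 (t : K) * (xG hp.inList 13 (φ (t : K)) * xG hp.inList 12 (φ (φ (t : K)))) := by
  rw [coe_ss, U_eq_up, map_up, map_up, map_up, psi_up hp.inList (by rw [nr]; norm_num),
    psi_up hp.inList (by rw [nr]; norm_num), psi_up hp.inList (by rw [nr]; norm_num), mul_one]
  rfl

theorem coe_ss_Lo (t : Fx φ 3) : ((ss hK hφ (Lo t) : ↥(twistedD4 K q)) : GL chevD4.Idx K) =
    xG hp.inList 5 (t : K) * (xG hp.inList 10 (φ (t : K)) * xG hp.inList 11 (φ (φ (t : K)))) := by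
  rw [coe_ss, Lo_eq_lo, map_lo, map_lo, map_lo, psi_lo hp.inList (by rw [nr]; norm_num),
    psi_lo hp.inList (by rw [nr]; norm_num), psi_lo hp.inList (by rw [nr]; norm_num), mul_one,
    simp_tab.2.2.2.2.2.1, simp_tab.2.2.2.2.2.2.1, simp_tab.2.2.2.2.2.2.2]
  rfl

theorem coe_ss_hh (t : (Fx φ 3)ˣ) : ((ss hK hφ (hh t) : ↥(twistedD4 K q)) : GL chevD4.Idx K) =
    hG hp.inList 18 ((t : Fx φ 3) : K) * (hG hp.inList 13 (φ ((t : Fx φ 3) : K)) *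
      hG hp.inList 12 (φ (φ ((t : Fx φ 3) : K)))) := by
  rw [coe_ss, hh_eq_hS, map_hS, map_hS, map_hS, psi_hS hp.inList (by rw [nr]; norm_num),
    psi_hS hp.inList (by rw [nr]; norm_num), psi_hS hp.inList (by rw [nr]; norm_num), mul_one]
  rfl

theorem two : Two (ss hK hφ) (sl hK hφ) (incl φ) (nrm φ) (1 + q + q ^ 2) where
  sU := by
    intro t u
    have ht : ((t : Fx φ 1) : K) ≠ 0 := fun h => t.ne_zero (Subtype.ext h)
    have hφt : φ ((t : Fx φ 1) : K) = (t : Fx φ 1) := mem_Fx.1 (t : Fx φ 1).2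
    apply Subtype.ext
    rw [Subgroup.coe_mul, Subgroup.coe_mul, coe_sl_hh, coe_ss_U, coe_ss_U]
    refine (mul3 (cj 1 simp_tab.2.1 (by norm_num) ht cart_tab.1.1 _) (cj 1 simp_tab.2.1 (by norm_num) ht cart_tab.1.2.1 _)
      (cj 1 simp_tab.2.1 (by norm_num) ht cart_tab.1.2.2 _)).trans ?_
    have e1 : (((incl φ (t : Fx φ 1))⁻¹ * u : Fx φ 3) : K) = ((t : Fx φ 1) : K) ^ (-1 : ℤ) * (u : K) := by
      rw [zpow_neg_one]; rfl
    rw [e1, map_mul, map_mul, map_zpow₀, map_zpow₀, hφt, hφt]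
  sL := by
    intro t u
    have ht : ((t : Fx φ 1) : K) ≠ 0 := fun h => t.ne_zero (Subtype.ext h)
    have hφt : φ ((t : Fx φ 1) : K) = (t : Fx φ 1) := mem_Fx.1 (t : Fx φ 1).2
    apply Subtype.ext
    rw [Subgroup.coe_mul, Subgroup.coe_mul, coe_sl_hh, coe_ss_Lo, coe_ss_Lo]
    refine (mul3 (cj 1 simp_tab.2.1 (by norm_num) ht cart_tab.2.1.1 _)
      (cj 1 simp_tab.2.1 (by norm_num) ht cart_tab.2.1.2.1 _)
      (cj 1 simp_tab.2.1 (by norm_num) ht cart_tab.2.1.2.2 _)).trans ?_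
    have e1 : ((incl φ (t : Fx φ 1) * u : Fx φ 3) : K) = ((t : Fx φ 1) : K) ^ (1 : ℤ) * (u : K) := by
      rw [zpow_one]; rfl
    rw [e1, map_mul, map_mul, map_zpow₀, map_zpow₀, hφt, hφt]
  lU := by
    intro t u
    have ht : ((t : Fx φ 3) : K) ≠ 0 := fun h => t.ne_zero (Subtype.ext h)
    apply Subtype.ext
    rw [Subgroup.coe_mul, Subgroup.coe_mul, coe_ss_hh, coe_sl_U, coe_sl_U]
    refine (mul3' (cj 0 simp_tab.1 (by norm_num) ht cart_tab.2.2.1.1 _)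
      (cj 2 simp_tab.2.2.1 (by norm_num) ((map_ne_zero φ).2 ht) cart_tab.2.2.1.2.1 _)
      (cj 3 simp_tab.2.2.2.1 (by norm_num) ((map_ne_zero φ).2 ((map_ne_zero φ).2 ht)) cart_tab.2.2.1.2.2 _)).trans ?_
    have e1 : ((((nrm φ t : (Fx φ 1)ˣ) : Fx φ 1)⁻¹ * u : Fx φ 1) : K) =
        (((t : Fx φ 3) : K) * φ ((t : Fx φ 3) : K) * φ (φ ((t : Fx φ 3) : K)))⁻¹ * (u : K) := rfl
    rw [e1]
    congr 2
    rw [zpow_neg_one, zpow_neg_one, zpow_neg_one, mul_inv, mul_inv]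
    ring
  lL := by
    intro t u
    have ht : ((t : Fx φ 3) : K) ≠ 0 := fun h => t.ne_zero (Subtype.ext h)
    apply Subtype.ext
    rw [Subgroup.coe_mul, Subgroup.coe_mul, coe_ss_hh, coe_sl_Lo, coe_sl_Lo]
    refine (mul3' (cj 0 simp_tab.1 (by norm_num) ht cart_tab.2.2.2.1 _)
      (cj 2 simp_tab.2.2.1 (by norm_num) ((map_ne_zero φ).2 ht) cart_tab.2.2.2.2.1 _)
      (cj 3 simp_tab.2.2.2.1 (by norm_num) ((map_ne_zero φ).2 ((map_ne_zero φ).2 ht)) cart_tab.2.2.2.2.2 _)).trans ?_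
    have e1 : ((((nrm φ t : (Fx φ 1)ˣ) : Fx φ 1) * u : Fx φ 1) : K) =
        (((t : Fx φ 3) : K) * φ ((t : Fx φ 3) : K) * φ (φ ((t : Fx φ 3) : K))) * (u : K) := rfl
    rw [e1]
    congr 2
    rw [zpow_one, zpow_one, zpow_one]
    ring
  nm := by
    intro t
    apply Subtype.ext
    rw [coe_incl, coe_nrm, hφ (φ _), hφ, ← pow_mul]
    show _ = (((t : Fx φ 3) : K)) ^ (1 + q + q ^ 2)
    ring

variable {W : Type*} [Group W] (cs : CoxeterSystem CoxeterMatrix.G₂ W) (p : ℕ) [Fact p.Prime] [CharP K p]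

theorem rp_ss : Rp cs (Nodes.RGDTwD4.rgd cs hK hφ p).nsys (cs.simple 1) (ss hK hφ ww) := by
  have h1 : ss hK hφ ww = Nodes.RGDTwD4.n hφ 1 := by
    rw [ww_eq_wS]
    exact Phi_wS (FG hK hφ) N1 hf1
  rw [h1]
  exact rp_simple cs (Nodes.RGDTwD4.rgd cs hK hφ p).nsys 1

theorem rp_sl : Rp cs (Nodes.RGDTwD4.rgd cs hK hφ p).nsys (cs.simple 0) (sl hK hφ ww) := by
  have h1 : sl hK hφ ww = Nodes.RGDTwD4.n hφ 0 := by
    rw [ww_eq_wS]
    exact Phi_wS (FG hK hφ) N0 hf0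
  rw [h1]
  exact rp_simple cs (Nodes.RGDTwD4.rgd cs hK hφ p).nsys 0

include cs p in
theorem nd_ss : Nd (Nodes.RGDTwD4.T K q) (Nodes.RGDTwD4.X φ q) 1 (ss hK hφ) := by
  refine nd_of (Nodes.RGDTwD4.rgd cs hK hφ p) (fun x => ?_) (rp_ss hK hφ cs p) (fun s => ?_)
  · refine (mem_X_iff (FG hK hφ) N1 hf1 x).trans ⟨?_, ?_⟩
    · rintro ⟨a, rfl⟩
      exact ⟨a, rfl⟩
    · rintro ⟨a, rfl⟩
      exact ⟨a, rfl⟩
  · rw [hh_eq_hS]
    exact Phi_hS (FG hK hφ) N1 hf1 s.ne_zero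

include cs p in
theorem nd_sl : Nd (Nodes.RGDTwD4.T K q) (Nodes.RGDTwD4.X φ q) 0 (sl hK hφ) := by
  refine nd_of (Nodes.RGDTwD4.rgd cs hK hφ p) (fun x => ?_) (rp_sl hK hφ cs p) (fun s => ?_)
  · refine (mem_X_iff (FG hK hφ) N0 hf0 x).trans ⟨?_, ?_⟩
    · rintro ⟨a, rfl⟩
      exact ⟨a, rfl⟩
    · rintro ⟨a, rfl⟩
      exact ⟨a, rfl⟩
  · rw [hh_eq_hS]
    exact Phi_hS (FG hK hφ) N0 hf0 s.ne_zero

/-- **the rank one groups of `³D₄(q)`** -/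
theorem hx_d4 : Hx (Nodes.RGDTwD4.rgd cs hK hφ p) 1 0 (ss hK hφ) (sl hK hφ) (incl φ) (nrm φ) (1 + q + q ^ 2) where
  ne := by decide
  Asl := rfl
  Als := rfl
  Ns := nd_ss hK hφ cs p
  Nl := nd_sl hK hφ cs p
  two := two hK hφ
  ws := rp_ss hK hφ cs p
  wl := rp_sl hK hφ cs p

end Cfsg.Agent.H744.Ppd.D4
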