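import Cfsg.Agent.H744.Ppd.Rank2
import Cfsg.Agent.Nodes.RGDFoldSL
import Cfsg.Agent.OddHalf.LongSL.Chev
import Cfsg.Agent.H48.DsChev

/-!
# The rank one groups of `G₂(K)` (helper744)
-/

set_option autoImplicit false
set_option linter.unusedSectionVars false
set_option linter.style.haveILetI false

namespace Cfsg.Agent.H744.Ppd

open Matrix (SpecialLinearGroup)
open Cfsg.Agent.H911.SLTwo Cfsg.Agent.H875.Fn
open CoxeterSystem Cfsg.Agent.ChevalleyStructure.CoxeterGeom Cfsg.Agent.Tits.Roots Cfsg.Agent.Tits.Core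
  Cfsg.Agent.Tits.Exchange Cfsg.Agent.Nodes.Reps Cfsg.Agent.Nodes.BNOf Cfsg.Agent.Nodes.RGDChev
  Cfsg.Agent.Nodes.RGDFoldSL Cfsg.Agent.H905.Md Cfsg.Agent.H650.Ppd
open Cfsg.Lie Cfsg.Agent.ChevalleyStructure Cfsg.Agent.ChevalleyStructure.Elts
  Cfsg.Agent.ChevalleyStructure.NPerm Cfsg.Agent.ChevalleyStructure.CoxeterGeomTypes
open Cfsg.Agent.ChevalleyStructure.SL2Hom (up lo)

section nd

variable {I W Y : Type*} [Fintype I] [DecidableEq I] [Group W] [Group Y] {M : CoxeterMatrix I}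
  {cs : CoxeterSystem M W} {A : I → I → ℤ} {h : IsCartan M A} {p : ℕ} {T : Subgroup Y} {n : I → Y}
  {X : (I → ℤ) → Subgroup Y} {E : Type*} [Field E]

theorem Lo_eq_conj (t : E) : Lo t = ww⁻¹ * U (-t) * ww := by
  rw [mul_assoc, eq_inv_mul_iff_mul_eq]
  apply ext' <;> simp only [m00, m01, m10, m11, U00, U01, U10, U11, Lo00, Lo01, Lo10, Lo11, ww00, ww01, ww10, ww11] <;>
    ring

/-- the lower root groups follow from the upper ones -/
theorem nd_of (R : RGD cs h p T n X) {i : I} {σ : SpecialLinearGroup (Fin 2) E →* Y}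
    (hup : ∀ x, x ∈ X (sr i) ↔ ∃ t, σ (U t) = x) (hw : Rp cs R.nsys (cs.simple i) (σ ww))
    (htor : ∀ s : Eˣ, σ (hh s) ∈ T) : Nd T X i σ := by
  refine ⟨hup, fun x => ?_, htor⟩
  have h1 : x ∈ X (-sr i) ↔ σ ww * x * (σ ww)⁻¹ ∈ X (sr i) := by
    have h2 := R.conj_rp hw (isRoot_sr cs h i).neg
    rw [map_neg, rep_simple_sr, neg_neg] at h2
    rw [← h2]
    exact conj_mem_cj.symm
  rw [h1, hup]
  constructor
  · rintro ⟨t, ht⟩
    refine ⟨-t, ?_⟩
    rw [Lo_eq_conj, neg_neg, map_mul, map_mul, map_inv, ht]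
    group
  · rintro ⟨t, rfl⟩
    refine ⟨-t, ?_⟩
    rw [Lo_eq_conj, map_mul, map_mul, map_inv]
    group

end nd

theorem hh_eq_hS {E : Type*} [Field E] (s : Eˣ) : hh s = hS (s : E) := by
  apply Subtype.ext
  rw [coe_hS s.ne_zero, ← Units.val_inv_eq_inv_val]
  rfl

theorem ww_eq_wS {E : Type*} [Field E] : (ww : SpecialLinearGroup (Fin 2) E) = wS 1 := by
  apply Subtype.ext
  rw [coe_wS one_ne_zero, inv_one]
  rfl

section chev

variable {D : ChevalleyDatum} {l : ℕ} {M : CoxeterMatrix (Fin l)} (hp : IsType D l M) (K : Type) [Field K]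

theorem psi_mem_group (i : Fin l) (g : SpecialLinearGroup (Fin 2) K) : psi hp.inList K (D.simple i) g ∈ D.group K := by
  have h1 := psi_mem hp.inList (simple_lt hp.inList (lt_rank hp i)) g
  rw [← XV_sr hp (K := K) i, ← XV_neg_sr hp (K := K) i] at h1
  exact (sup_le (XV_le_group hp _) (XV_le_group hp _)) h1

/-- `SL₂(K)` at the node `i` -/
noncomputable def sg (i : Fin l) : SpecialLinearGroup (Fin 2) K →* ↥(D.group K) :=
  (psi hp.inList K (D.simple i)).codRestrict (D.group K) (psi_mem_group hp K i)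

variable {K}

theorem coe_sg_U (i : Fin l) (t : K) : ((sg hp K i (U t) : ↥(D.group K)) : GL D.Idx K) = xG hp.inList (D.simple i) t :=
  psi_up hp.inList (simple_lt hp.inList (lt_rank hp i)) t

theorem coe_sg_Lo (i : Fin l) (t : K) :
    ((sg hp K i (Lo t) : ↥(D.group K)) : GL D.Idx K) = xG hp.inList (D.neg (D.simple i)) t :=
  psi_lo hp.inList (simple_lt hp.inList (lt_rank hp i)) t

theorem coe_sg_hh (i : Fin l) (t : Kˣ) :
    ((sg hp K i (hh t) : ↥(D.group K)) : GL D.Idx K) = hG hp.inList (D.simple i) (t : K) := by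
  rw [hh_eq_hS]
  exact psi_hS hp.inList (simple_lt hp.inList (lt_rank hp i)) _

theorem coe_sg_ww (i : Fin l) : ((sg hp K i ww : ↥(D.group K)) : GL D.Idx K) = nn hp K i := by
  rw [ww_eq_wS]
  exact psi_wS hp.inList (simple_lt hp.inList (lt_rank hp i)) _

theorem sg_rp {W : Type*} [Group W] (cs : CoxeterSystem M W) [Finite K] (p : ℕ) [Fact p.Prime] [CharP K p] (i : Fin l) :
    Rp cs (Nodes.RGDChev.rgd hp (K := K) cs p).nsys (cs.simple i) (sg hp K i ww) := by
  have h1 : sg hp K i ww = (⟨nn hp K i, nn_mem_group hp i⟩ : ↥(D.group K)) := Subtype.ext (coe_sg_ww hp i)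
  rw [h1]
  exact rp_simple cs (Nodes.RGDChev.rgd hp (K := K) cs p).nsys i

theorem sg_nd {W : Type*} [Group W] (cs : CoxeterSystem M W) [Finite K] (p : ℕ) [Fact p.Prime] [CharP K p] (i : Fin l) :
    Nd ((D.diagonalSubgroup K).subgroupOf (D.group K)) (fun x => (XV D l K x).subgroupOf (D.group K)) i (sg hp K i) := by
  refine nd_of (Nodes.RGDChev.rgd hp (K := K) cs p) (fun x => ?_) (sg_rp hp cs p i) (fun s => ?_)
  · rw [Subgroup.mem_subgroupOf, XV_sr hp, mem_rootSubgroup_iff hp.inList]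
    constructor
    · rintro ⟨t, ht⟩
      exact ⟨t, Subtype.ext ((coe_sg_U hp i t).trans ht.symm)⟩
    · rintro ⟨t, rfl⟩
      exact ⟨t, coe_sg_U hp i t⟩
  · rw [Subgroup.mem_subgroupOf, coe_sg_hh]
    exact hG_mem_diagonal hp.inList (simple_lt hp.inList (lt_rank hp i)) s.ne_zero

/-- the action of the torus -/
theorem sg_conj (i : Fin l) (t : Kˣ) {r : ℕ} (hr : r < D.nroots) (u : K) :
    hG hp.inList (D.simple i) (t : K) * xG hp.inList r u =
      xG hp.inList r ((t : K) ^ (D.cartan i r) * u) * hG hp.inList (D.simple i) (t : K) := by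
  have h1 := Cfsg.Agent.OddHalf.LongSL.Chev.conj_hG hp K i hr (t : K) t.ne_zero u
  exact mul_inv_eq_iff_eq_mul.1 h1

end chev

/-! ### `G₂` -/

section g2

theorem ht : IsType chevG2 2 CoxeterMatrix.G₂ := by simp [IsType, typeList]

theorem tab : chevG2.simple ((0 : Fin 2) : ℕ) = 7 ∧ chevG2.simple ((1 : Fin 2) : ℕ) = 6 ∧ chevG2.neg 7 = 4 ∧
    chevG2.neg 6 = 5 ∧ chevG2.nroots = 12 := by decide +kernel

theorem tabc : chevG2.cartan ((1 : Fin 2) : ℕ) 7 = -1 ∧ chevG2.cartan ((1 : Fin 2) : ℕ) 4 = 1 ∧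
    chevG2.cartan ((0 : Fin 2) : ℕ) 6 = -3 ∧ chevG2.cartan ((0 : Fin 2) : ℕ) 5 = 3 := by decide +kernel

variable {K : Type} [Field K] [Finite K] {W : Type*} [Group W] (cs : CoxeterSystem CoxeterMatrix.G₂ W) (p : ℕ)
  [Fact p.Prime] [CharP K p]

theorem hx_g2 : Hx (Nodes.RGDChev.rgd ht (K := K) cs p) 0 1 (sg ht K 0) (sg ht K 1) (RingHom.id K)
    (fun t => t ^ 3) 3 where
  ne := by decide
  Asl := by decide +kernel
  Als := by decide +kernel
  Ns := sg_nd ht cs p 0
  Nl := sg_nd ht cs p 1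
  two :=
    { sU := by
        intro t u
        apply Subtype.ext
        have h1 := sg_conj ht (K := K) (1 : Fin 2) t (r := 7) (by rw [tab.2.2.2.2]; norm_num) u
        rw [tabc.1, zpow_neg, zpow_one] at h1
        rw [Subgroup.coe_mul, Subgroup.coe_mul, coe_sg_hh, coe_sg_U, coe_sg_U, tab.1]
        exact h1
      sL := by
        intro t u
        apply Subtype.ext
        have h1 := sg_conj ht (K := K) (1 : Fin 2) t (r := 4) (by rw [tab.2.2.2.2]; norm_num) u
        rw [tabc.2.1, zpow_one] at h1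
        rw [Subgroup.coe_mul, Subgroup.coe_mul, coe_sg_hh, coe_sg_Lo, coe_sg_Lo, tab.1, tab.2.2.1]
        exact h1
      lU := by
        intro t u
        apply Subtype.ext
        have h1 := sg_conj ht (K := K) (0 : Fin 2) t (r := 6) (by rw [tab.2.2.2.2]; norm_num) u
        rw [tabc.2.2.1, zpow_neg] at h1
        rw [Subgroup.coe_mul, Subgroup.coe_mul, coe_sg_hh, coe_sg_U, coe_sg_U, tab.2.1, Units.val_pow_eq_pow_val]
        exact_mod_cast h1
      lL := by
        intro t u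
        apply Subtype.ext
        have h1 := sg_conj ht (K := K) (0 : Fin 2) t (r := 5) (by rw [tab.2.2.2.2]; norm_num) u
        rw [tabc.2.2.2] at h1
        rw [Subgroup.coe_mul, Subgroup.coe_mul, coe_sg_hh, coe_sg_Lo, coe_sg_Lo, tab.2.1, tab.2.2.2.1,
          Units.val_pow_eq_pow_val]
        exact_mod_cast h1
      nm := fun t => by rw [RingHom.id_apply, Units.val_pow_eq_pow_val] }
  ws := sg_rp ht cs p 0
  wl := sg_rp ht cs p 1

end g2

end Cfsg.Agent.H744.Ppd
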