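import Cfsg.Agent.H744.Ppd.Str

/-!
# Weights for the torus of a rank two group (helper744)

`ss : SL₂(K) → Y` (short root), `sl : SL₂(E) → Y` (long root), `ε : E → K`, `Two` : the torus acts on the root groups with
the Cartan integers `-1` and `-f`.  `IsOcc v a b` : `v` has weight `(a, b)`.

* `IsOcc.refl_s`, `IsOcc.refl_l` : the Weyl group;
* `IsOcc.str_s`, `IsOcc.str_l` : the strings;
* `count` : vectors of different weights and independent vectors of further weights.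
-/

set_option autoImplicit false
set_option linter.unusedSectionVars false
set_option linter.style.haveILetI false

namespace Cfsg.Agent.H744.Ppd

open Matrix (SpecialLinearGroup)
open Cfsg.Agent.H911.SLTwo Cfsg.Agent.H875.Fn

/-! ### independence -/

section lin

variable {k V : Type*} [Field k] [AddCommGroup V] [Module k V] (f g : Module.End k V)

theorem proj {τ : Type*} [DecidableEq τ] (s : Finset τ) {a b : τ → k} {a₀ b₀ : k}
    (hne : ∀ i ∈ s, ¬ (a i = a₀ ∧ b i = b₀)) : ∀ (y : τ → V) (y₀ : V), (∀ i ∈ s, f (y i) = a i • y i) →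
    (∀ i ∈ s, g (y i) = b i • y i) → f y₀ = a₀ • y₀ → g y₀ = b₀ • y₀ → ∑ i ∈ s, y i + y₀ = 0 → y₀ = 0 := by
  induction s using Finset.induction_on with
  | empty =>
    intro y y₀ _ _ _ _ h
    simpa using h
  | insert i s hi ih =>
    intro y y₀ h1 h2 h3 h4 h
    have hne' : ∀ j ∈ s, ¬ (a j = a₀ ∧ b j = b₀) := fun j hj => hne j (Finset.mem_insert_of_mem hj)
    rw [Finset.sum_insert hi] at h
    by_cases ha : a i = a₀
    · have hb : b i ≠ b₀ := fun hb => hne i (Finset.mem_insert_self _ _) ⟨ha, hb⟩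
      have h5 := congrArg (fun z => g z - b i • z) h
      simp only [map_add, map_zero, smul_zero, sub_zero, map_sum, smul_add, Finset.smul_sum] at h5
      rw [h2 i (Finset.mem_insert_self _ _), h4] at h5
      have h6 : ∑ j ∈ s, (b j - b i) • y j + (b₀ - b i) • y₀ = 0 := by
        rw [← h5, Finset.sum_congr rfl (fun j hj => h2 j (Finset.mem_insert_of_mem hj))]
        simp only [sub_smul, Finset.sum_sub_distrib]
        abel
      have h7 := ih hne' (fun j => (b j - b i) • y j) ((b₀ - b i) • y₀)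
        (fun j hj => by rw [map_smul, h1 j (Finset.mem_insert_of_mem hj), smul_comm])
        (fun j hj => by rw [map_smul, h2 j (Finset.mem_insert_of_mem hj), smul_comm])
        (by rw [map_smul, h3, smul_comm]) (by rw [map_smul, h4, smul_comm]) h6
      exact (smul_eq_zero.1 h7).resolve_left (sub_ne_zero.2 (Ne.symm hb))
    · have h5 := congrArg (fun z => f z - a i • z) h
      simp only [map_add, map_zero, smul_zero, sub_zero, map_sum, smul_add, Finset.smul_sum] at h5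
      rw [h1 i (Finset.mem_insert_self _ _), h3] at h5
      have h6 : ∑ j ∈ s, (a j - a i) • y j + (a₀ - a i) • y₀ = 0 := by
        rw [← h5, Finset.sum_congr rfl (fun j hj => h1 j (Finset.mem_insert_of_mem hj))]
        simp only [sub_smul, Finset.sum_sub_distrib]
        abel
      have h7 := ih hne' (fun j => (a j - a i) • y j) ((a₀ - a i) • y₀)
        (fun j hj => by rw [map_smul, h1 j (Finset.mem_insert_of_mem hj), smul_comm])
        (fun j hj => by rw [map_smul, h2 j (Finset.mem_insert_of_mem hj), smul_comm])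
        (by rw [map_smul, h3, smul_comm]) (by rw [map_smul, h4, smul_comm]) h6
      exact (smul_eq_zero.1 h7).resolve_left (sub_ne_zero.2 (Ne.symm ha))

/-- a linearly independent family `x` of joint eigenvectors and joint eigenvectors `y` of different and further
eigenvalues -/
theorem card_le {α β : Type*} [Fintype α] [Fintype β] {x : α → V} (hx : LinearIndependent k x) {y : β → V}
    (hy : ∀ i, y i ≠ 0) {a b : α → k} {c d : β → k} (h1 : ∀ i, f (x i) = a i • x i) (h2 : ∀ i, g (x i) = b i • x i)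
    (h3 : ∀ i, f (y i) = c i • y i) (h4 : ∀ i, g (y i) = d i • y i)
    (h5 : ∀ i j, ¬ (a i = c j ∧ b i = d j)) (h6 : ∀ i j, c i = c j → d i = d j → i = j) [FiniteDimensional k V] :
    Fintype.card α + Fintype.card β ≤ Module.finrank k V := by
  classical
  have h : LinearIndependent k (Sum.elim x y) := by
    rw [Fintype.linearIndependent_iff]
    intro e he
    rw [Fintype.sum_sum_type] at he
    simp only [Sum.elim_inl, Sum.elim_inr] at he
    have key : ∀ j : β, e (Sum.inr j) = 0 := by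
      intro j
      have h7 := proj f g (τ := α ⊕ β) ((Finset.univ : Finset (α ⊕ β)).erase (Sum.inr j)) (a := Sum.elim a c)
        (b := Sum.elim b d) (a₀ := c j) (b₀ := d j) (by
          intro i hi
          rcases i with i | i
          · exact h5 i j
          · rintro ⟨e1, e2⟩
            exact (Finset.mem_erase.1 hi).1 (congrArg Sum.inr (h6 _ _ e1 e2)))
        (Sum.elim (fun i => e (Sum.inl i) • x i) (fun i => e (Sum.inr i) • y i)) (e (Sum.inr j) • y j)
        (by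
          rintro (i | i) _
          · simp only [Sum.elim_inl]; rw [map_smul, h1, smul_comm]
          · simp only [Sum.elim_inr]; rw [map_smul, h3, smul_comm])
        (by
          rintro (i | i) _
          · simp only [Sum.elim_inl]; rw [map_smul, h2, smul_comm]
          · simp only [Sum.elim_inr]; rw [map_smul, h4, smul_comm])
        (by rw [map_smul, h3, smul_comm]) (by rw [map_smul, h4, smul_comm]) (by
          have h8 := Finset.sum_erase_add (Finset.univ : Finset (α ⊕ β))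
            (Sum.elim (fun i => e (Sum.inl i) • x i) (fun i => e (Sum.inr i) • y i)) (Finset.mem_univ (Sum.inr j))
          rw [Fintype.sum_sum_type] at h8
          simp only [Sum.elim_inl, Sum.elim_inr] at h8
          rw [h8, he])
      exact (smul_eq_zero.1 h7).resolve_right (hy j)
    have h7 : ∑ i, e (Sum.inl i) • x i = 0 := by
      simpa [key] using he
    have h8 := Fintype.linearIndependent_iff.1 hx _ h7
    rintro (i | i)
    · exact h8 i
    · exact key i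
  have h9 := h.fintype_card_le_finrank
  rwa [Fintype.card_sum] at h9

end lin

/-! ### weights -/

section occ

variable {K E Y : Type*} [Field K] [Field E] [Group Y]

/-- the relations between the torus and the root groups of a rank two group -/
structure Two (ss : SpecialLinearGroup (Fin 2) K →* Y) (sl : SpecialLinearGroup (Fin 2) E →* Y) (ε : E →+* K)
    (N : Kˣ → Eˣ) (f : ℕ) : Prop where
  sU : ∀ (t : Eˣ) (u : K), sl (hh t) * ss (U u) = ss (U ((ε (t : E))⁻¹ * u)) * sl (hh t)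
  sL : ∀ (t : Eˣ) (u : K), sl (hh t) * ss (Lo u) = ss (Lo (ε (t : E) * u)) * sl (hh t)
  lU : ∀ (t : Kˣ) (u : E), ss (hh t) * sl (U u) = sl (U ((N t : E)⁻¹ * u)) * ss (hh t)
  lL : ∀ (t : Kˣ) (u : E), ss (hh t) * sl (Lo u) = sl (Lo ((N t : E) * u)) * ss (hh t)
  nm : ∀ t : Kˣ, ε (N t : E) = (t : K) ^ f

theorem ww_eq (x : K) (hx : x ≠ 0) : U x * Lo (-x⁻¹) * U x = hh (Units.mk0 x hx) * ww := by
  apply ext' <;> simp only [m00, m01, m10, m11, hh00, hh01, hh10, hh11, U00, U01, U10, U11, Lo00, Lo01, Lo10, Lo11,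
    ww00, ww01, ww10, ww11, Units.val_inv_eq_inv_val, Units.val_mk0]
  · field_simp; ring
  · field_simp; ring
  · field_simp; ring
  · field_simp; ring

theorem ww_eq_one : U (1 : K) * Lo (-1) * U 1 = ww := by
  apply ext' <;> simp only [m00, m01, m10, m11, U00, U01, U10, U11, Lo00, Lo01, Lo10, Lo11, ww00, ww01, ww10, ww11] <;>
    ring

theorem hh_ww (t : Kˣ) : hh t * ww = ww * hh t⁻¹ := by
  apply ext' <;> simp only [m00, m01, m10, m11, hh00, hh01, hh10, hh11, ww00, ww01, ww10, ww11, inv_inv] <;> ring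

variable {ss : SpecialLinearGroup (Fin 2) K →* Y} {sl : SpecialLinearGroup (Fin 2) E →* Y} {ε : E →+* K}
  {N : Kˣ → Eˣ} {f : ℕ} (H : Two ss sl ε N f)
include H

theorem Two.s_ww (t : Eˣ) : sl (hh t) * ss ww = ss ww * ss (hh (Units.map ε.toMonoidHom t)) * sl (hh t) := by
  set e : Kˣ := Units.map ε.toMonoidHom t with he
  have he' : (e : K) = ε (t : E) := rfl
  have h0 : (ε (t : E))⁻¹ ≠ 0 := by rw [← he']; exact inv_ne_zero e.ne_zero
  have h1 : sl (hh t) * ss (U 1 * Lo (-1) * U 1) =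
      ss (U ((ε (t : E))⁻¹) * Lo (-((ε (t : E))⁻¹)⁻¹) * U ((ε (t : E))⁻¹)) * sl (hh t) := by
    have a1 := H.sU t 1
    have a2 := H.sL t (-1)
    rw [mul_one] at a1
    rw [mul_neg_one] at a2
    rw [inv_inv]
    calc sl (hh t) * ss (U 1 * Lo (-1) * U 1) = (sl (hh t) * ss (U 1)) * ss (Lo (-1)) * ss (U 1) := by
          rw [map_mul, map_mul]; group
      _ = ss (U (ε (t : E))⁻¹) * (sl (hh t) * ss (Lo (-1))) * ss (U 1) := by rw [a1]; group
      _ = ss (U (ε (t : E))⁻¹) * ss (Lo (-ε (t : E))) * (sl (hh t) * ss (U 1)) := by rw [a2]; group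
      _ = _ := by rw [a1, map_mul, map_mul]; group
  rw [ww_eq_one, ww_eq _ h0] at h1
  rw [h1]
  congr 1
  rw [← map_mul]
  congr 1
  have h2 : Units.mk0 (ε (t : E))⁻¹ h0 = e⁻¹ := Units.ext (by rw [Units.val_mk0, Units.val_inv_eq_inv_val, he'])
  rw [h2, hh_ww, inv_inv]

theorem Two.l_ww (t : Kˣ) : ss (hh t) * sl ww = sl ww * sl (hh (N t)) * ss (hh t) := by
  have h0 : ((N t : E))⁻¹ ≠ 0 := inv_ne_zero (N t).ne_zero
  have h1 : ss (hh t) * sl (U 1 * Lo (-1) * U 1) =
      sl (U (((N t : E))⁻¹) * Lo (-(((N t : E))⁻¹)⁻¹) * U (((N t : E))⁻¹)) * ss (hh t) := by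
    have a1 := H.lU t 1
    have a2 := H.lL t (-1)
    rw [mul_one] at a1
    rw [mul_neg_one] at a2
    rw [inv_inv]
    calc ss (hh t) * sl (U 1 * Lo (-1) * U 1) = (ss (hh t) * sl (U 1)) * sl (Lo (-1)) * sl (U 1) := by
          rw [map_mul, map_mul]; group
      _ = sl (U ((N t : E))⁻¹) * (ss (hh t) * sl (Lo (-1))) * sl (U 1) := by rw [a1]; group
      _ = sl (U ((N t : E))⁻¹) * sl (Lo (-(N t : E))) * (ss (hh t) * sl (U 1)) := by rw [a2]; group
      _ = _ := by rw [a1, map_mul, map_mul]; group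
  rw [ww_eq_one, ww_eq _ h0] at h1
  rw [h1]
  congr 1
  rw [← map_mul]
  congr 1
  have h2 : Units.mk0 ((N t : E))⁻¹ h0 = (N t)⁻¹ := Units.ext (by rw [Units.val_mk0, Units.val_inv_eq_inv_val])
  rw [h2, hh_ww, inv_inv]

end occ

section wt

variable {K E Y : Type*} [Field K] [Field E] [Group Y] {k V : Type*} [Field k] [AddCommGroup V] [Module k V]
  (ρ : Y →* Module.End k V) (ss : SpecialLinearGroup (Fin 2) K →* Y) (sl : SpecialLinearGroup (Fin 2) E →* Y)
  (ε : E →+* K) (ι : K →+* k)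

/-- `v` has weight `(a, b)` -/
def IsOcc (v : V) (a b : ℤ) : Prop :=
  (∀ t : Kˣ, ρ (ss (hh t)) v = ι (t : K) ^ a • v) ∧ ∀ t : Eˣ, ρ (sl (hh t)) v = ι (ε (t : E)) ^ b • v

/-- `(a, b)` is a weight -/
def Occ (a b : ℤ) : Prop := ∃ v : V, v ≠ 0 ∧ IsOcc ρ ss sl ε ι v a b

variable {ρ ss sl ε ι}

theorem inj_ne {x : K} (hx : x ≠ 0) : ι x ≠ 0 := by
  rwa [map_ne_zero]

variable {N : Kˣ → Eˣ} {f : ℕ} (H : Two ss sl ε N f) {v : V} {a b : ℤ}
include H

theorem IsOcc.refl_s (hv : IsOcc ρ ss sl ε ι v a b) : IsOcc ρ ss sl ε ι (ρ (ss ww) v) (-a) (b + a) := by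
  refine ⟨fun t => ?_, fun t => ?_⟩
  · rw [← Module.End.mul_apply, ← map_mul, ← map_mul, hh_ww, map_mul, map_mul, Module.End.mul_apply, hv.1, map_smul]
    congr 1
    rw [Units.val_inv_eq_inv_val, map_inv₀, _root_.inv_zpow, zpow_neg]
  · rw [← Module.End.mul_apply, ← map_mul, H.s_ww, map_mul, map_mul, Module.End.mul_apply, Module.End.mul_apply, hv.2,
      map_smul, hv.1, map_smul, map_smul, smul_smul]
    congr 1
    rw [zpow_add₀ (by exact inj_ne (by rw [map_ne_zero]; exact t.ne_zero))]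
    rfl

theorem IsOcc.refl_l (hv : IsOcc ρ ss sl ε ι v a b) : IsOcc ρ ss sl ε ι (ρ (sl ww) v) (a + f * b) (-b) := by
  refine ⟨fun t => ?_, fun t => ?_⟩
  · rw [← Module.End.mul_apply, ← map_mul, H.l_ww, map_mul, map_mul, Module.End.mul_apply, Module.End.mul_apply, hv.1,
      map_smul, hv.2, map_smul, map_smul, smul_smul]
    congr 1
    rw [zpow_add₀ (by exact inj_ne t.ne_zero), _root_.zpow_mul, H.nm, map_pow, zpow_natCast]
  · rw [← Module.End.mul_apply, ← map_mul, ← map_mul, hh_ww, map_mul, map_mul, Module.End.mul_apply, hv.2, map_smul]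
    congr 1
    rw [Units.val_inv_eq_inv_val, map_inv₀, map_inv₀, _root_.inv_zpow, zpow_neg]

theorem Occ.refl_s (h : Occ ρ ss sl ε ι a b) : Occ ρ ss sl ε ι (-a) (b + a) := by
  obtain ⟨v, hv0, hv⟩ := h
  exact ⟨_, Cfsg.Agent.Omega.CR.rho_ne_zero ρ _ hv0, hv.refl_s H⟩

theorem Occ.refl_l (h : Occ ρ ss sl ε ι a b) : Occ ρ ss sl ε ι (a + f * b) (-b) := by
  obtain ⟨v, hv0, hv⟩ := h
  exact ⟨_, Cfsg.Agent.Omega.CR.rho_ne_zero ρ _ hv0, hv.refl_l H⟩

omit H in
/-- congruent weights -/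
theorem IsOcc.congr [Fintype K] [Fintype E] (h : IsOcc ρ ss sl ε ι v a b) {a' b' : ℤ}
    (ha : ((Fintype.card K - 1 : ℕ) : ℤ) ∣ a' - a) (hb : ((Fintype.card E - 1 : ℕ) : ℤ) ∣ b' - b) :
    IsOcc ρ ss sl ε ι v a' b' := by
  obtain ⟨x, hx⟩ := ha
  obtain ⟨y, hy⟩ := hb
  have ha' : a' = a + ((Fintype.card K - 1 : ℕ) : ℤ) * x := by omega
  have hb' : b' = b + ((Fintype.card E - 1 : ℕ) : ℤ) * y := by omega
  refine ⟨fun t => ?_, fun t => ?_⟩
  · rw [h.1, ha', zpow_add₀ (inj_ne t.ne_zero), _root_.zpow_mul, zpow_natCast, map_pow_card_sub_one ι t.ne_zero, one_zpow,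
      mul_one]
  · have h1 : ι (ε (t : E)) ^ (Fintype.card E - 1) = 1 := by
      have := map_pow_card_sub_one (ι.comp ε) t.ne_zero
      exact this
    rw [h.2, hb', zpow_add₀ (inj_ne (by rw [map_ne_zero]; exact t.ne_zero)), _root_.zpow_mul, zpow_natCast, h1, one_zpow,
      mul_one]

omit H in
theorem Occ.congr [Fintype K] [Fintype E] (h : Occ ρ ss sl ε ι a b) {a' b' : ℤ}
    (ha : ((Fintype.card K - 1 : ℕ) : ℤ) ∣ a' - a) (hb : ((Fintype.card E - 1 : ℕ) : ℤ) ∣ b' - b) :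
    Occ ρ ss sl ε ι a' b' := by
  obtain ⟨v, hv0, hv⟩ := h
  exact ⟨v, hv0, hv.congr ha hb⟩

/-- the string of the short node -/
theorem IsOcc.str_s [Fintype K] (hv : IsOcc ρ ss sl ε ι v a b) (ι' : K →+* k) (e : ℕ) (he : ∀ x, ι' x = ι x ^ e) {m : ℕ}
    (hm : m ≤ Fintype.card K - 1) :
    IsOcc ρ ss sl ε ι (cf ι' (ρ.comp ss) v m) (a - 2 * (e * m)) (b + e * m) := by
  refine ⟨fun t => ?_, fun t => ?_⟩
  · have h1 : ((t⁻¹ : Kˣ) : K) ^ 2 ≠ 0 := pow_ne_zero 2 (Units.ne_zero _)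
    rw [cf_tor (j := ι') (R := ρ.comp ss) (ρ (ss (hh t))) h1 (fun u => by
      rw [MonoidHom.comp_apply, MonoidHom.comp_apply, ← map_mul, ← map_mul, ← map_mul, ← map_mul, hh_Lo]) (hv.1 t) hm]
    congr 1
    have h0 : ι (t : K) ≠ 0 := inj_ne t.ne_zero
    rw [he, Units.val_inv_eq_inv_val, map_pow, map_inv₀, zpow_sub₀ h0, div_eq_mul_inv, ← zpow_natCast,
      ← zpow_natCast, ← zpow_natCast, ← _root_.zpow_mul, ← _root_.zpow_mul, _root_.inv_zpow]
    congr 3
  · have h1 : ε (t : E) ≠ 0 := by rw [map_ne_zero]; exact t.ne_zero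
    rw [cf_tor (j := ι') (R := ρ.comp ss) (ρ (sl (hh t))) h1 (fun u => by
      rw [MonoidHom.comp_apply, MonoidHom.comp_apply, ← map_mul, ← map_mul, H.sL]) (hv.2 t) hm]
    congr 1
    have h0 : ι (ε (t : E)) ≠ 0 := inj_ne h1
    rw [he, zpow_add₀ h0, ← pow_mul]
    congr 1
    exact_mod_cast rfl

/-- the string of the long node -/
theorem IsOcc.str_l [Fintype E] (hv : IsOcc ρ ss sl ε ι v a b) (ι' : E →+* k) (e : ℕ) (he : ∀ x, ι' x = ι (ε x) ^ e)
    {m : ℕ} (hm : m ≤ Fintype.card E - 1) :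
    IsOcc ρ ss sl ε ι (cf ι' (ρ.comp sl) v m) (a + f * (e * m)) (b - 2 * (e * m)) := by
  refine ⟨fun t => ?_, fun t => ?_⟩
  · have h1 : (N t : E) ≠ 0 := (N t).ne_zero
    rw [cf_tor (j := ι') (R := ρ.comp sl) (ρ (ss (hh t))) h1 (fun u => by
      rw [MonoidHom.comp_apply, MonoidHom.comp_apply, ← map_mul, ← map_mul, H.lL]) (hv.1 t) hm]
    congr 1
    have h0 : ι (t : K) ≠ 0 := inj_ne t.ne_zero
    rw [he, H.nm, zpow_add₀ h0, map_pow, ← pow_mul, ← pow_mul]
    congr 1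
    exact_mod_cast rfl
  · have h1 : ((t⁻¹ : Eˣ) : E) ^ 2 ≠ 0 := pow_ne_zero 2 (Units.ne_zero _)
    rw [cf_tor (j := ι') (R := ρ.comp sl) (ρ (sl (hh t))) h1 (fun u => by
      rw [MonoidHom.comp_apply, MonoidHom.comp_apply, ← map_mul, ← map_mul, ← map_mul, ← map_mul, hh_Lo]) (hv.2 t) hm]
    congr 1
    have h0 : ι (ε (t : E)) ≠ 0 := inj_ne (by rw [map_ne_zero]; exact t.ne_zero)
    rw [he, Units.val_inv_eq_inv_val, map_pow, map_inv₀, map_pow, map_inv₀, zpow_sub₀ h0, div_eq_mul_inv,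
      ← zpow_natCast, ← zpow_natCast, ← zpow_natCast, ← _root_.zpow_mul, ← _root_.zpow_mul, _root_.inv_zpow]
    congr 3

omit H in
/-- the reflections on the weights -/
def rs (x : ℤ × ℤ) : ℤ × ℤ := (-x.1, x.2 + x.1)

/-- the reflections on the weights -/
def rl (f : ℤ) (x : ℤ × ℤ) : ℤ × ℤ := (x.1 + f * x.2, -x.2)

/-- the orbit of a weight under the Weyl group -/
def orb (f : ℤ) (x : ℤ × ℤ) : List (ℤ × ℤ) :=
  [x, rs x, rl f (rs x), rs (rl f (rs x)), rl f (rs (rl f (rs x))), rs (rl f (rs (rl f (rs x)))),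
    rl f x, rs (rl f x), rl f (rs (rl f x)), rs (rl f (rs (rl f x))), rl f (rs (rl f (rs (rl f x)))),
    rs (rl f (rs (rl f (rs (rl f x)))))]

theorem Occ.orb {x : ℤ × ℤ} (h : Occ ρ ss sl ε ι x.1 x.2) {y : ℤ × ℤ} (hy : y ∈ orb f x) :
    Occ ρ ss sl ε ι y.1 y.2 := by
  have hs : ∀ x : ℤ × ℤ, Occ ρ ss sl ε ι x.1 x.2 → Occ ρ ss sl ε ι (rs x).1 (rs x).2 := fun x h => h.refl_s H
  have hl : ∀ x : ℤ × ℤ, Occ ρ ss sl ε ι x.1 x.2 → Occ ρ ss sl ε ι (rl f x).1 (rl f x).2 := fun x h => h.refl_l H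
  unfold Ppd.orb at hy
  simp only [List.mem_cons, List.not_mem_nil, or_false] at hy
  rcases hy with rfl | rfl | rfl | rfl | rfl | rfl | rfl | rfl | rfl | rfl | rfl | rfl
  · exact h
  · exact hs _ h
  · exact hl _ (hs _ h)
  · exact hs _ (hl _ (hs _ h))
  · exact hl _ (hs _ (hl _ (hs _ h)))
  · exact hs _ (hl _ (hs _ (hl _ (hs _ h))))
  · exact hl _ h
  · exact hs _ (hl _ h)
  · exact hl _ (hs _ (hl _ h))
  · exact hs _ (hl _ (hs _ (hl _ h)))
  · exact hl _ (hs _ (hl _ (hs _ (hl _ h))))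
  · exact hs _ (hl _ (hs _ (hl _ (hs _ (hl _ h)))))

end wt

/-! ### counting -/

section count

variable {K E Y : Type*} [Field K] [Field E] [Group Y] {k V : Type*} [Field k] [AddCommGroup V] [Module k V]
  {ρ : Y →* Module.End k V} {ss : SpecialLinearGroup (Fin 2) K →* Y} {sl : SpecialLinearGroup (Fin 2) E →* Y}
  {ε : E →+* K} {ι : K →+* k} [Fintype K] [Fintype E]

theorem dvd_of_zpow_eq {u : Kˣ} (hu : orderOf u = Fintype.card K - 1) {a b : ℤ}
    (h : ι (u : K) ^ a = ι (u : K) ^ b) : ((Fintype.card K - 1 : ℕ) : ℤ) ∣ a - b := by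
  have h1 : u ^ (a - b) = 1 := by
    apply Units.ext
    apply ι.injective
    rw [Units.val_one, map_one, zpow_sub, Units.val_mul, ← zpow_neg, map_mul, Units.val_zpow_eq_zpow_val,
      Units.val_zpow_eq_zpow_val, map_zpow₀, map_zpow₀, h, ← zpow_add₀ (inj_ne u.ne_zero), add_neg_cancel, zpow_zero]
  rw [← hu]
  exact orderOf_dvd_iff_zpow_eq_one.2 h1

theorem exists_gen (K : Type*) [Field K] [Fintype K] : ∃ u : Kˣ, orderOf u = Fintype.card K - 1 := by
  classical
  obtain ⟨u, hu⟩ := IsCyclic.exists_ofOrder_eq_natCard (α := Kˣ)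
  exact ⟨u, by rw [hu, Nat.card_units, Nat.card_eq_fintype_card]⟩

/-- **counting weights** -/
theorem count [FiniteDimensional k V] {α : Type*} [Fintype α] {x : α → V} (hx : LinearIndependent k x)
    {a : α → ℤ × ℤ} (ha : ∀ i, IsOcc ρ ss sl ε ι (x i) (a i).1 (a i).2) (S : Finset (ℤ × ℤ))
    (hS : ∀ y ∈ S, Occ ρ ss sl ε ι y.1 y.2)
    (h1 : ∀ i, ∀ y ∈ S, ¬ (((Fintype.card K - 1 : ℕ) : ℤ) ∣ (a i).1 - y.1 ∧
      ((Fintype.card E - 1 : ℕ) : ℤ) ∣ (a i).2 - y.2))
    (h2 : ∀ y ∈ S, ∀ z ∈ S, ((Fintype.card K - 1 : ℕ) : ℤ) ∣ y.1 - z.1 →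
      ((Fintype.card E - 1 : ℕ) : ℤ) ∣ y.2 - z.2 → y = z) :
    Fintype.card α + S.card ≤ Module.finrank k V := by
  classical
  obtain ⟨u, hu⟩ := exists_gen K
  obtain ⟨w, hw⟩ := exists_gen E
  choose v hv0 hv using fun y : S => hS y.1 y.2
  have h := card_le (ρ (ss (hh u))) (ρ (sl (hh w))) hx (y := v) hv0
    (a := fun i => ι (u : K) ^ (a i).1) (b := fun i => ι (ε (w : E)) ^ (a i).2)
    (c := fun y => ι (u : K) ^ y.1.1) (d := fun y => ι (ε (w : E)) ^ y.1.2)
    (fun i => (ha i).1 u) (fun i => (ha i).2 w) (fun y => (hv y).1 u) (fun y => (hv y).2 w)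
    (fun i y h3 => h1 i y.1 y.2 ⟨dvd_of_zpow_eq hu h3.1, dvd_of_zpow_eq (ι := ι.comp ε) hw h3.2⟩)
    (fun y z h3 h4 => Subtype.ext (h2 y.1 y.2 z.1 z.2 (dvd_of_zpow_eq hu h3) (dvd_of_zpow_eq (ι := ι.comp ε) hw h4)))
  rwa [Fintype.card_coe] at h

end count

end Cfsg.Agent.H744.Ppd
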