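import Cfsg.Agent.H744.Ppd.Occ
import Cfsg.Agent.H650.Ppd.Edge
import Cfsg.Agent.H650.Ppd.Count

/-!
# Strings for root group data of type `G₂` (helper744)

`s` the short node, `l` the long node; `Hx` : the rank one groups `ss : SL₂(K) → Y`, `sl : SL₂(E) → Y` and the action of
the torus.

* `str_s`, `str_l` : the strings through `v₀`; `str_ls` : the string of the long node through `n_s v₀`; `str_sl` : the
  string of the short node through `n_l v₀`;
* `vertices` : the six extremal vectors for `J = {s}`.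
-/

set_option autoImplicit false
set_option linter.unusedSectionVars false
set_option linter.style.haveILetI false

namespace Cfsg.Agent.H744.Ppd

open Matrix (SpecialLinearGroup)
open Cfsg.Agent.H911.SLTwo Cfsg.Agent.H875.Fn
open CoxeterSystem Cfsg.Agent.ChevalleyStructure.CoxeterGeom Cfsg.Agent.Tits.Roots Cfsg.Agent.Tits.Core
  Cfsg.Agent.Tits.Exchange Cfsg.Agent.Nodes.Reps Cfsg.Agent.Nodes.BNOf Cfsg.Agent.Nodes.StabComb
  Cfsg.Agent.Nodes.Bruhat Cfsg.Agent.Nodes.OppDec Cfsg.Agent.Nodes.LeviDec Cfsg.Agent.KFacts.RgdOpp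
  Cfsg.Agent.Omega.CR Cfsg.Agent.Omega.FOne.Lift.Sd Cfsg.Agent.H905.Md Cfsg.Agent.H650.Ppd

section

variable {W Y : Type*} [Group W] [Group Y] {cs : CoxeterSystem CoxeterMatrix.G₂ W} {A : Fin 2 → Fin 2 → ℤ}
  {h : IsCartan CoxeterMatrix.G₂ A} {p : ℕ} {T : Subgroup Y} {n : Fin 2 → Y} {X : (Fin 2 → ℤ) → Subgroup Y}
  {K E : Type*} [Field K] [Field E]

/-- the rank one groups -/
structure Hx (R : RGD cs h p T n X) (s l : Fin 2) (ss : SpecialLinearGroup (Fin 2) K →* Y)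
    (sl : SpecialLinearGroup (Fin 2) E →* Y) (ε : E →+* K) (N : Kˣ → Eˣ) (f : ℕ) : Prop where
  ne : s ≠ l
  Asl : A s l = -3
  Als : A l s = -1
  Ns : Nd T X s ss
  Nl : Nd T X l sl
  two : Two ss sl ε N f
  ws : Rp cs R.nsys (cs.simple s) (ss ww)
  wl : Rp cs R.nsys (cs.simple l) (sl ww)

variable {R : RGD cs h p T n X} {s l : Fin 2} {ss : SpecialLinearGroup (Fin 2) K →* Y}
    {sl : SpecialLinearGroup (Fin 2) E →* Y} {ε : E →+* K} {N : Kˣ → Eˣ} {f : ℕ}

namespace Hx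

variable (H : Hx R s l ss sl ε N f)
include H

theorem cases (i : Fin 2) : i = s ∨ i = l := by
  have h1 := H.ne
  have h2 := i.2
  have h3 := s.2
  have h4 := l.2
  have h5 : s.val ≠ l.val := fun e => h1 (Fin.ext e)
  rcases Nat.lt_or_ge i.val 1 with h6 | h6
  · by_cases h7 : s.val = 0
    · left; apply Fin.ext; omega
    · right; apply Fin.ext; omega
  · by_cases h7 : s.val = 1
    · left; apply Fin.ext; omega
    · right; apply Fin.ext; omega

theorem sum_eq (x : Fin 2 → ℤ) : ∑ i, x i = x s + x l := by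
  rw [Fin.sum_univ_two]
  rcases H.cases 0 with h0 | h0 <;> rcases H.cases 1 with h1 | h1
  · exact absurd (h0.trans h1.symm) (by decide)
  · rw [h0, h1]
  · rw [h0, h1, add_comm]
  · exact absurd (h0.trans h1.symm) (by decide)

theorem ext_iff' {x y : Fin 2 → ℤ} : x = y ↔ x s = y s ∧ x l = y l := by
  constructor
  · rintro rfl
    exact ⟨rfl, rfl⟩
  · rintro ⟨h1, h2⟩
    funext i
    rcases H.cases i with rfl | rfl
    · exact h1
    · exact h2

theorem rep_s (x : Fin 2 → ℤ) : rep cs h (cs.simple s) x s = -x s + 3 * x l ∧ rep cs h (cs.simple s) x l = x l := by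
  rw [rep_simple_eq]
  unfold pairing
  rw [H.sum_eq, h.diag s, H.Asl]
  simp only [Pi.sub_apply, Pi.smul_apply, smul_eq_mul, sr_self, sr_ne (Ne.symm H.ne)]
  constructor <;> ring

theorem rep_l (x : Fin 2 → ℤ) : rep cs h (cs.simple l) x s = x s ∧ rep cs h (cs.simple l) x l = -x l + x s := by
  rw [rep_simple_eq]
  unfold pairing
  rw [H.sum_eq, h.diag l, H.Als]
  simp only [Pi.sub_apply, Pi.smul_apply, smul_eq_mul, sr_self, sr_ne H.ne]
  constructor <;> ring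

end Hx

end

section

variable {I W Y : Type*} [Fintype I] [DecidableEq I] [Group W] [Group Y] {M : CoxeterMatrix I}
  {cs : CoxeterSystem M W} {A : I → I → ℤ} {h : IsCartan M A} {p : ℕ} {T : Subgroup Y} {n : I → Y}
  {X : (I → ℤ) → Subgroup Y} {E : Type*} [Field E] {k V : Type*} [Field k] [AddCommGroup V] [Module k V]
  {ρ : Y →* Module.End k V} {i : I} {σ : SpecialLinearGroup (Fin 2) E →* Y}

/-- the rank one group of a node of `J` fixes `V^U` -/
theorem fix_J (N : Nd T X i σ) (hi : i ∈ Jx cs h X ρ) {v : V} (hv : v ∈ D cs h X ρ) (g : SpecialLinearGroup (Fin 2) E) :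
    ρ (σ g) v = v := by
  let H : Subgroup (SpecialLinearGroup (Fin 2) E) :=
    { carrier := {g | ρ (σ g) v = v}
      one_mem' := by
        change ρ (σ 1) v = v
        rw [map_one, map_one]; rfl
      mul_mem' := by
        intro a b (ha : ρ (σ a) v = v) (hb : ρ (σ b) v = v)
        change ρ (σ (a * b)) v = v
        rw [map_mul, map_mul, Module.End.mul_apply, hb, ha]
      inv_mem' := by
        intro a (ha : ρ (σ a) v = v)
        change ρ (σ a⁻¹) v = v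
        conv_lhs => rw [← ha]
        rw [map_inv]
        exact Cfsg.Agent.Omega.CR.rho_inv_rho ρ _ _ }
  refine mem_of_UL (H := H) (fun t => ?_) (fun t => ?_) g
  · exact hv _ (RGD.le_Sup (S := RGD.Pos cs h) ⟨isRoot_sr cs h i, sr_nonneg i⟩ ((N.up _).2 ⟨t, rfl⟩))
  · exact hi _ ((N.lo _).2 ⟨t, rfl⟩) v hv

end

section

variable {W Y : Type*} [Group W] [Group Y] {cs : CoxeterSystem CoxeterMatrix.G₂ W} {A : Fin 2 → Fin 2 → ℤ}
  {h : IsCartan CoxeterMatrix.G₂ A} {p : ℕ} {T : Subgroup Y} {n : Fin 2 → Y} {X : (Fin 2 → ℤ) → Subgroup Y}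
  {K E : Type*} [Field K] [Field E] {k V : Type*} [Field k] [AddCommGroup V] [Module k V]
  {R : RGD cs h p T n X} {s l : Fin 2} {ss : SpecialLinearGroup (Fin 2) K →* Y}
  {sl : SpecialLinearGroup (Fin 2) E →* Y} {ε : E →+* K} {N : Kˣ → Eˣ} {f : ℕ} [Finite Y] [Finite W] [Fact p.Prime]
  [CharP k p] {ρ : Y →* Module.End k V} [FiniteDimensional k V] [Nontrivial V]

namespace Hx

variable (H : Hx R s l ss sl ε N f) (hirr : ∀ L : Submodule k V, Ivt ρ (GG cs h T X) L → L = ⊥ ∨ L = ⊤)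
  {v₀ : V} (hv₀ : v₀ ∈ D cs h X ρ) {φ₀ : Module.Dual k V} (hφ₀ : φ₀ ∈ fx (dualRep ρ) (UN cs h X)) (hne : φ₀ v₀ ≠ 0)
include H hirr hv₀ hφ₀ hne

/-- the string of the short node through `v₀` -/
theorem str_s [Fintype K] (hs : s ∉ Jx cs h X ρ) (j : K →+* k) {c : ℕ} (h1 : 1 ≤ c) (h2 : c ≤ Fintype.card K - 1)
    (htor : ∀ t : Kˣ, ρ (ss (hh t)) v₀ = j (t : K) ^ c • v₀) : Str j (ρ.comp ss) φ₀ v₀ c := by
  have h3 := str_of_rgd R hirr j (rp_one (cs := cs) (hN := R.nsys)) (i := s)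
    (by rw [inv_one, map_one]; exact sr_nonneg s) (by
      rw [inv_one, one_mul, mul_one]
      exact fun h4 => hs (simple_mem_WJ h h4)) (fun t => (H.Ns.up _).2 ⟨t, rfl⟩) (fun t => (H.Ns.lo _).2 ⟨t, rfl⟩) H.ws
      hv₀ hφ₀ hne h1 h2 (by rw [map_one]; exact htor)
  rwa [map_one, map_one] at h3

/-- the string of the long node through `v₀` -/
theorem str_l [Fintype E] (hl : l ∉ Jx cs h X ρ) (j : E →+* k) {c : ℕ} (h1 : 1 ≤ c) (h2 : c ≤ Fintype.card E - 1)
    (htor : ∀ t : Eˣ, ρ (sl (hh t)) v₀ = j (t : E) ^ c • v₀) : Str j (ρ.comp sl) φ₀ v₀ c := by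
  have h3 := str_of_rgd R hirr j (rp_one (cs := cs) (hN := R.nsys)) (i := l)
    (by rw [inv_one, map_one]; exact sr_nonneg l) (by
      rw [inv_one, one_mul, mul_one]
      exact fun h4 => hl (simple_mem_WJ h h4)) (fun t => (H.Nl.up _).2 ⟨t, rfl⟩) (fun t => (H.Nl.lo _).2 ⟨t, rfl⟩) H.wl
      hv₀ hφ₀ hne h1 h2 (by rw [map_one]; exact htor)
  rwa [map_one, map_one] at h3

/-- the string of the long node through `n_s v₀` -/
theorem str_ls [Fintype E] (hs : s ∉ Jx cs h X ρ) (j : E →+* k) {c : ℕ} (h1 : 1 ≤ c) (h2 : c ≤ Fintype.card E - 1)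
    (htor : ∀ t : Eˣ, ρ (sl (hh t)) (ρ (ss ww) v₀) = j (t : E) ^ c • ρ (ss ww) v₀) :
    Str j (ρ.comp sl) (dualRep ρ (ss ww) φ₀) (ρ (ss ww) v₀) c := by
  refine str_of_rgd R hirr j H.ws (i := l) ?_ ?_ (fun t => (H.Nl.up _).2 ⟨t, rfl⟩) (fun t => (H.Nl.lo _).2 ⟨t, rfl⟩)
    H.wl hv₀ hφ₀ hne h1 h2 htor
  · rw [inv_simple]
    intro i
    have h3 := H.rep_s (sr l)
    rw [sr_self, sr_ne H.ne] at h3
    rcases H.cases i with rfl | rfl
    · rw [h3.1]; norm_num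
    · rw [h3.2]; norm_num
  · intro hw
    have h3 := coord_of_mem_WJ (h := h) hw (sr s) hs
    rw [inv_simple, rep_mul_apply, rep_mul_apply, (H.rep_s _).1, (H.rep_l _).1, (H.rep_l _).2, (H.rep_s _).1,
      (H.rep_s _).2, sr_self, sr_ne (Ne.symm H.ne)] at h3
    norm_num at h3

/-- the string of the short node through `n_l v₀` -/
theorem str_sl [Fintype K] (hl : l ∉ Jx cs h X ρ) (j : K →+* k) {c : ℕ} (h1 : 1 ≤ c) (h2 : c ≤ Fintype.card K - 1)
    (htor : ∀ t : Kˣ, ρ (ss (hh t)) (ρ (sl ww) v₀) = j (t : K) ^ c • ρ (sl ww) v₀) :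
    Str j (ρ.comp ss) (dualRep ρ (sl ww) φ₀) (ρ (sl ww) v₀) c := by
  refine str_of_rgd R hirr j H.wl (i := s) ?_ ?_ (fun t => (H.Ns.up _).2 ⟨t, rfl⟩) (fun t => (H.Ns.lo _).2 ⟨t, rfl⟩)
    H.ws hv₀ hφ₀ hne h1 h2 htor
  · rw [inv_simple]
    intro i
    have h3 := H.rep_l (sr s)
    rw [sr_self, sr_ne (Ne.symm H.ne)] at h3
    rcases H.cases i with rfl | rfl
    · rw [h3.1]; norm_num
    · rw [h3.2]; norm_num
  · intro hw
    have h3 := coord_of_mem_WJ (h := h) hw (sr l) hl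
    rw [inv_simple, rep_mul_apply, rep_mul_apply, (H.rep_l _).2, (H.rep_s _).2, (H.rep_s _).1, (H.rep_l _).1,
      (H.rep_l _).2, sr_self, sr_ne H.ne] at h3
    norm_num at h3

omit hirr hv₀ hφ₀ hne in
/-- the representatives of the six vertices for `l ∉ J` -/
theorem rp_six : ∀ a : Fin 6, ∃ w : W, Rp cs R.nsys w ((![1, sl ww, ss ww * sl ww, sl ww * (ss ww * sl ww),
    ss ww * (sl ww * (ss ww * sl ww)), sl ww * (ss ww * (sl ww * (ss ww * sl ww)))] : Fin 6 → Y) a) ∧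
    ∀ x : Fin 2 → ℤ, rep cs h w⁻¹ x l = (![0, 1, -1, 1, -1, 0] : Fin 6 → ℤ) a * x s +
      (![1, -1, 2, -2, 1, -1] : Fin 6 → ℤ) a * x l := by
  have key : ∀ (w : W) (g : Y) (α β : ℤ), Rp cs R.nsys w g → (∀ x : Fin 2 → ℤ, rep cs h w⁻¹ x l = α * x s + β * x l) →
      (Rp cs R.nsys (cs.simple s * w) (ss ww * g) ∧
        ∀ x : Fin 2 → ℤ, rep cs h (cs.simple s * w)⁻¹ x l = -α * x s + (3 * α + β) * x l) ∧
      (Rp cs R.nsys (cs.simple l * w) (sl ww * g) ∧
        ∀ x : Fin 2 → ℤ, rep cs h (cs.simple l * w)⁻¹ x l = (α + β) * x s + -β * x l) := by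
    intro w g α β hg hx
    refine ⟨⟨H.ws.mul hg, fun x => ?_⟩, ⟨H.wl.mul hg, fun x => ?_⟩⟩
    · rw [mul_inv_rev, inv_simple, rep_mul_apply, hx, (H.rep_s x).1, (H.rep_s x).2]; ring
    · rw [mul_inv_rev, inv_simple, rep_mul_apply, hx, (H.rep_l x).1, (H.rep_l x).2]; ring
  have k0 : Rp cs R.nsys (1 : W) (1 : Y) ∧ ∀ x : Fin 2 → ℤ, rep cs h (1 : W)⁻¹ x l = 0 * x s + 1 * x l :=
    ⟨rp_one, fun x => by rw [inv_one, map_one, Module.End.one_apply]; ring⟩
  have k1 := (key _ _ _ _ k0.1 k0.2).2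
  have k2 := (key _ _ _ _ k1.1 k1.2).1
  have k3 := (key _ _ _ _ k2.1 k2.2).2
  have k4 := (key _ _ _ _ k3.1 k3.2).1
  have k5 := (key _ _ _ _ k4.1 k4.2).2
  rw [mul_one (sl ww)] at k1 k2 k3 k4 k5
  intro a
  fin_cases a
  · exact ⟨_, k0⟩
  · exact ⟨_, k1.1, fun x => (k1.2 x).trans (by show _ = (1 : ℤ) * x s + (-1) * x l; ring)⟩
  · exact ⟨_, k2.1, fun x => (k2.2 x).trans (by show _ = (-1 : ℤ) * x s + 2 * x l; ring)⟩
  · exact ⟨_, k3.1, fun x => (k3.2 x).trans (by show _ = (1 : ℤ) * x s + (-2) * x l; ring)⟩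
  · exact ⟨_, k4.1, fun x => (k4.2 x).trans (by show _ = (-1 : ℤ) * x s + 1 * x l; ring)⟩
  · exact ⟨_, k5.1, fun x => (k5.2 x).trans (by show _ = (0 : ℤ) * x s + (-1) * x l; ring)⟩

/-- **the six vertices are linearly independent** -/
theorem indep_six (hl : l ∉ Jx cs h X ρ) : LinearIndependent k fun a : Fin 6 => ρ ((![1, sl ww, ss ww * sl ww,
    sl ww * (ss ww * sl ww), ss ww * (sl ww * (ss ww * sl ww)),
    sl ww * (ss ww * (sl ww * (ss ww * sl ww)))] : Fin 6 → Y) a) v₀ := by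
  set g : Fin 6 → Y := ![1, sl ww, ss ww * sl ww, sl ww * (ss ww * sl ww), ss ww * (sl ww * (ss ww * sl ww)),
    sl ww * (ss ww * (sl ww * (ss ww * sl ww)))] with hg
  choose w hw hx using H.rp_six
  rw [Fintype.linearIndependent_iff]
  intro c hc a
  have h1 := congrArg (fun v => φ₀ (ρ (g a)⁻¹ v)) hc
  simp only [map_sum, map_smul, map_zero] at h1
  rw [Finset.sum_eq_single a] at h1
  · rw [rho_inv_rho, smul_eq_mul] at h1
    exact (mul_eq_zero.1 h1).resolve_right hne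
  · intro b _ hba
    rw [smul_eq_mul, mul_eq_zero]
    right
    by_contra h2
    rw [← rho_mul] at h2
    have h3 := mem_WJ_of_pair R hirr hφ₀ ((hw a).inv.mul (hw b)) hv₀ h2
    have h4 : ∀ x : Fin 2 → ℤ, rep cs h (w a)⁻¹ x l = rep cs h (w b)⁻¹ x l := by
      intro x
      have h5 := coord_of_mem_WJ (h := h) h3 (rep cs h (w b)⁻¹ x) hl
      rwa [← rep_mul_apply, mul_inv_cancel_right] at h5
    have e1 := h4 (sr s)
    have e2 := h4 (sr l)
    rw [hx, hx, sr_self, sr_ne (Ne.symm H.ne)] at e1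
    rw [hx, hx, sr_self, sr_ne H.ne] at e2
    apply hba
    clear h1 h2 h3 h4 hx hw hc
    revert e1 e2
    revert a b
    decide
  · intro h2
    exact absurd (Finset.mem_univ a) h2

end Hx

end

end Cfsg.Agent.H744.Ppd
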