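import Cfsg.Agent.H905.MdC
import Cfsg.Agent.H875.SSet

/-!
# Strings of weight vectors (helper744)

`R' : SL₂(E) → End V`, `φ` fixed by the lower unipotent group, `v` fixed by the upper one, `h(s) v = j(s)^c v`,
`φ(n v) = 0`, `φ v ≠ 0`, `1 ≤ c ≤ |E| - 1` (`Str`).  The coefficients `cf m` of `x_{-}(t) v = ∑ t^m v_m`:

* `cf_ne` : `v_m ≠ 0` for `m ∈ SS p c`, `1 ≤ m`;
* `dim_str` : `|SS p c| ≤ dim V`;
* `cf_tor` : an element which acts on the lower root group by the scalar `a` and on `v` by `b` acts on `v_m` by `b j(a)^m`;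
* `str_of_rgd` : the strings of a simple module of a root group datum in defining characteristic.
-/

set_option autoImplicit false
set_option linter.unusedSectionVars false
set_option linter.style.haveILetI false

namespace Cfsg.Agent.H744.Ppd

open Matrix Cfsg.Agent.H911.SLTwo Cfsg.Agent.H875.Fn

section str

variable {E : Type*} [Field E] [Fintype E] {k : Type*} [Field k] (j : E →+* k) {V : Type*} [AddCommGroup V] [Module k V]
  (R : SpecialLinearGroup (Fin 2) E →* Module.End k V)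

/-- the data of a string -/
structure Str (φ : Module.Dual k V) (v : V) (c : ℕ) : Prop where
  lo : ∀ t x, φ (R (Lo t) x) = φ x
  up : ∀ t, R (U t) v = v
  tor : ∀ s : Eˣ, R (hh s) v = j (s : E) ^ c • v
  ww : φ (R ww v) = 0
  ne : φ v ≠ 0
  one_le : 1 ≤ c
  le : c ≤ Fintype.card E - 1

variable {j R} {φ : Module.Dual k V} {v : V} {c : ℕ}

theorem Str.row (H : Str j R φ v c) (g : SpecialLinearGroup (Fin 2) E) : φ (R g v) = φ v * j (g.1 0 0) ^ c := by
  by_cases ha : g.1 0 0 = 0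
  · have hdet := det_eq g
    rw [ha, zero_mul, zero_sub] at hdet
    have hb : g.1 0 1 ≠ 0 := by
      intro h0
      rw [h0, zero_mul, neg_zero] at hdet
      exact zero_ne_one hdet
    obtain ⟨b, hb'⟩ : ∃ b : Eˣ, (b : E) = g.1 0 1 := ⟨Units.mk0 _ hb, rfl⟩
    have e : g = Cfsg.Agent.H911.SLTwo.ww * hh b⁻¹ * U (-(g.1 0 1 * g.1 1 1)) := by
      have hb0 : (b : E) ≠ 0 := b.ne_zero
      apply ext' <;> simp only [m00, m01, m10, m11, hh00, hh01, hh10, hh11, U00, U01, U10, U11, ww00, ww01, ww10, ww11,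
        inv_inv, Units.val_inv_eq_inv_val, ha, ← hb']
      · simp
      · simp
      · have h1 : g.1 1 0 = -(b : E)⁻¹ := by
          field_simp
          rw [hb']
          linear_combination -hdet
        rw [h1]; ring
      · field_simp
        ring
    rw [e, map_mul, map_mul, Module.End.mul_apply, Module.End.mul_apply, H.up, H.tor, map_smul, map_smul, H.ww]
    rw [← e, ha, map_zero, zero_pow (by have := H.one_le; omega), mul_zero, smul_zero]
  · obtain ⟨a, ha'⟩ : ∃ a : Eˣ, (a : E) = g.1 0 0 := ⟨Units.mk0 _ ha, rfl⟩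
    have hdet := det_eq g
    have e : g = Lo (g.1 1 0 * (g.1 0 0)⁻¹) * hh a * U ((g.1 0 0)⁻¹ * g.1 0 1) := by
      apply ext' <;> simp only [m00, m01, m10, m11, hh00, hh01, hh10, hh11, U00, U01, U10, U11, Lo00, Lo01, Lo10, Lo11,
        Units.val_inv_eq_inv_val, ha'] <;> field_simp <;> (try ring1)
      linear_combination hdet
    have e2 : R g v = R (Lo (g.1 1 0 * (g.1 0 0)⁻¹)) (R (hh a) (R (U ((g.1 0 0)⁻¹ * g.1 0 1)) v)) := by
      conv_lhs => rw [e]
      rw [map_mul, map_mul, Module.End.mul_apply, Module.End.mul_apply]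
    rw [e2, H.lo, H.up, H.tor, map_smul, ha', smul_eq_mul, mul_comm]

theorem Str.emb_eq (H : Str j R φ v c) : emb R φ v = φ v • pw j c (1, 0) := by
  funext x
  rw [Pi.smul_apply, smul_eq_mul]
  by_cases hx : x = 0
  · rw [hx, emb_zero]
    unfold pw
    have := H.one_le
    simp only [Prod.fst_zero, Prod.snd_zero, zero_mul, add_zero, map_zero]
    rw [zero_pow (by omega), mul_zero]
  · obtain ⟨g, rfl⟩ := exists_row x hx
    rw [emb_row H.lo, H.row]
    unfold pw Cfsg.Agent.H875.Fn.row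
    simp

variable (j R) in
/-- the coefficient of `t^m` in `x₋(t) v` (up to sign) -/
def cf (v : V) (m : ℕ) : V := ∑ t : E, (j t ^ (Fintype.card E - 1 - m)) • R (Lo t) v

theorem sum_coeff {M : Type*} [AddCommGroup M] [Module k M] (j : E →+* k) {r : ℕ} (hr : r ≤ Fintype.card E - 1)
    (c : ℕ → M) {m : ℕ} (hm0 : m ≠ 0) (hm : m ≤ r) :
    ∑ t : E, (j t ^ (Fintype.card E - 1 - m)) • ∑ i ∈ Finset.range (r + 1), (j t ^ i) • c i = - c m := by
  have hq := two_le_card (E := E)
  simp only [Finset.smul_sum, smul_smul, ← pow_add]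
  rw [Finset.sum_comm]
  rw [Finset.sum_eq_single m]
  · rw [← Finset.sum_smul]
    have h3 : Fintype.card E - 1 - m + m = Fintype.card E - 1 := by omega
    rw [h3, sum_map_pow j (by omega), if_pos (dvd_refl _), neg_one_smul]
  · intro i hi hne
    rw [← Finset.sum_smul]
    rw [Finset.mem_range] at hi
    by_cases h0 : Fintype.card E - 1 - m + i = 0
    · rw [h0]
      simp only [pow_zero]
      rw [Finset.sum_const, Finset.card_univ, nsmul_eq_mul, card_cast_zero j, zero_mul, zero_smul]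
    · rw [sum_map_pow j h0, if_neg, zero_smul]
      rintro ⟨d, hd⟩
      have hd1 : d < 2 := by
        by_contra hd2
        have : (Fintype.card E - 1) * 2 ≤ (Fintype.card E - 1) * d := Nat.mul_le_mul_left _ (by omega)
        omega
      interval_cases d
      · omega
      · apply hne; omega
  · intro h3
    exact absurd (Finset.mem_range.2 (by omega)) h3

theorem Str.emb_cf (H : Str j R φ v c) {m : ℕ} (hm0 : m ≠ 0) (hm : m ≤ c) :
    emb R φ (cf j R v m) = -(φ v • wm j c m) := by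
  unfold cf
  rw [map_sum]
  simp only [map_smul, emb_act H.lo, H.emb_eq]
  have h1 := sum_coeff (M := E × E → k) j H.le (fun m => φ v • wm j c m) hm0 hm
  rw [← h1]
  refine Finset.sum_congr rfl fun t _ => ?_
  congr 1
  rw [act_Lo_pw, Finset.smul_sum]
  exact Finset.sum_congr rfl fun i _ => smul_comm _ _ _

variable (p : ℕ) [hp : Fact p.Prime] [CharP k p]

include hp in
theorem Str.cf_ne (H : Str j R φ v c) {m : ℕ} (hm0 : m ≠ 0) (hm : m ∈ SS p c) : cf j R v m ≠ 0 := by
  intro h0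
  have h1 := H.emb_cf hm0 (mem_SS.1 hm).1
  rw [h0, map_zero, eq_comm, neg_eq_zero, smul_eq_zero] at h1
  have h2 := h1.resolve_left H.ne
  unfold wm at h2
  have h3 := congrFun ((smul_eq_zero.1 h2).resolve_left (choose_ne_zero p hm)) (1, 1)
  rw [mono_apply, map_one, one_pow, one_pow, one_mul] at h3
  exact one_ne_zero h3

include hp in
/-- **the dimension of the string** -/
theorem Str.dim_le (H : Str j R φ v c) [FiniteDimensional k V] : (SS p c).card ≤ Module.finrank k V := by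
  have h1 : ∀ m ∈ SS p c, mono j (c - m) m ∈ LinearMap.range (emb R φ) := by
    intro m hm
    refine mono_mem_span_Lo j p H.le (fun t => ?_) hm
    have h2 : act E k (Lo t) (emb R φ v) ∈ LinearMap.range (emb R φ) := by
      rw [← emb_act H.lo]
      exact ⟨_, rfl⟩
    rw [H.emb_eq, map_smul] at h2
    have h3 := Submodule.smul_mem _ (φ v)⁻¹ h2
    rwa [smul_smul, inv_mul_cancel₀ H.ne, one_smul] at h3
  have h2 : L j c ≤ LinearMap.range (emb R φ) := by
    rw [L_eq_span j p H.le, Submodule.span_le]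
    rintro _ ⟨m, hm, rfl⟩
    exact h1 m hm
  rw [← finrank_L j p H.le]
  exact (Submodule.finrank_mono h2).trans (LinearMap.finrank_range_le _)

/-- **the torus acts on the coefficients** -/
theorem cf_tor (f : Module.End k V) {a : E} (ha : a ≠ 0) {b : k}
    (hf : ∀ t, f * R (Lo t) = R (Lo (a * t)) * f) (hv : f v = b • v) {m : ℕ} (hm : m ≤ Fintype.card E - 1) :
    f (cf j R v m) = (b * j a ^ m) • cf j R v m := by
  unfold cf
  rw [map_sum, Finset.smul_sum]
  have e : ∀ t : E, f ((j t ^ (Fintype.card E - 1 - m)) • R (Lo t) v) =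
      (b * j a ^ m) • ((j (a * t) ^ (Fintype.card E - 1 - m)) • R (Lo (a * t)) v) := by
    intro t
    have h1 : f (R (Lo t) v) = R (Lo (a * t)) (f v) := LinearMap.congr_fun (hf t) v
    rw [map_smul, h1, hv, map_smul, smul_smul, smul_smul, map_mul, mul_pow]
    congr 1
    have h2 : j a ^ m * j a ^ (Fintype.card E - 1 - m) = 1 := by
      rw [← pow_add, Nat.add_sub_cancel' hm, map_pow_card_sub_one j ha]
    linear_combination (-(b * j t ^ (Fintype.card E - 1 - m))) * h2
  rw [Finset.sum_congr rfl fun t _ => e t]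
  exact (Equiv.sum_comp (Equiv.mulLeft₀ a ha) (fun t => (b * j a ^ m) • ((j t ^ (Fintype.card E - 1 - m)) • R (Lo t) v)))

end str

/-! ### root group data -/

open CoxeterSystem Cfsg.Agent.ChevalleyStructure.CoxeterGeom Cfsg.Agent.Tits.Roots Cfsg.Agent.Tits.Core
  Cfsg.Agent.Tits.Exchange Cfsg.Agent.Nodes.Reps Cfsg.Agent.Nodes.BNOf Cfsg.Agent.Nodes.StabComb
  Cfsg.Agent.Nodes.Bruhat Cfsg.Agent.Nodes.OppDec Cfsg.Agent.Nodes.LeviDec Cfsg.Agent.KFacts.RgdOpp
  Cfsg.Agent.Omega.CR Cfsg.Agent.Omega.FOne.Lift.Sd Cfsg.Agent.H905.Md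

section rgd

variable {I W Y : Type*} [Fintype I] [DecidableEq I] [Group W] [Group Y] {M : CoxeterMatrix I}
  {cs : CoxeterSystem M W} {A : I → I → ℤ} {h : IsCartan M A} {p : ℕ} {T : Subgroup Y} {n : I → Y}
  {X : (I → ℤ) → Subgroup Y} {k V : Type*} [Field k] [AddCommGroup V] [Module k V]
  (R : RGD cs h p T n X) [Finite Y] [Finite W] [Fact p.Prime] [CharP k p]
  {ρ : Y →* Module.End k V} [FiniteDimensional k V]
  (hirr : ∀ L : Submodule k V, Ivt ρ (GG cs h T X) L → L = ⊥ ∨ L = ⊤)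

variable {E : Type*} [Field E] [Fintype E] (j : E →+* k)

include R hirr in
/-- **the strings of the extremal vectors** -/
theorem str_of_rgd [Nontrivial V] {w : W} {g : Y} (hg : Rp cs R.nsys w g) {i : I}
    (hpos : 0 ≤ rep cs h w⁻¹ (sr i)) (hw : w⁻¹ * cs.simple i * w ∉ WJ cs (Jx cs h X ρ))
    {σ : SpecialLinearGroup (Fin 2) E →* Y} (hU : ∀ t, σ (U t) ∈ X (sr i)) (hL : ∀ t, σ (Lo t) ∈ X (-sr i))
    (hn : Rp cs R.nsys (cs.simple i) (σ ww)) {v₀ : V} (hv₀ : v₀ ∈ D cs h X ρ) {φ₀ : Module.Dual k V}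
    (hφ₀ : φ₀ ∈ fx (dualRep ρ) (UN cs h X)) (hne : φ₀ v₀ ≠ 0) {c : ℕ} (h1 : 1 ≤ c) (h2 : c ≤ Fintype.card E - 1)
    (htor : ∀ s : Eˣ, ρ (σ (hh s)) (ρ g v₀) = j (s : E) ^ c • ρ g v₀) :
    Str j (ρ.comp σ) (dualRep ρ g φ₀) (ρ g v₀) c := by
  have hroot : IsRoot cs h (rep cs h w⁻¹ (sr i)) := (isRoot_sr cs h i).act _
  refine ⟨fun t x => ?_, fun t => ?_, fun s => htor s, ?_, ?_, h1, h2⟩
  · rw [dualRep_apply, dualRep_apply, MonoidHom.comp_apply]
    have h3 := R.conj_mem' hg (isRoot_sr cs h i).neg (hL t)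
    rw [map_neg] at h3
    have h4 : g⁻¹ * σ (Lo t) * g ∈ UN cs h X := X_le_UN hroot.neg (neg_nonpos.2 hpos) h3
    have h5 := (mem_fx_dual ρ).1 hφ₀ _ h4 (ρ g⁻¹ x)
    rw [← rho_mul]
    rw [← rho_mul] at h5
    rw [← h5]
    congr 3
    group
  · rw [MonoidHom.comp_apply]
    have h3 := R.conj_mem' hg (isRoot_sr cs h i) (hU t)
    have h4 : ρ (g⁻¹ * σ (U t) * g) v₀ = v₀ := hv₀ _ (RGD.le_Sup (S := RGD.Pos cs h) ⟨hroot, hpos⟩ h3)
    have e : σ (U t) * g = g * (g⁻¹ * σ (U t) * g) := by group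
    rw [← rho_mul, e, rho_mul, h4]
  · rw [dualRep_apply, MonoidHom.comp_apply]
    by_contra hne'
    apply hw
    refine mem_WJ_of_pair R hirr hφ₀ ((hg.inv.mul hn).mul hg) hv₀ ?_
    intro h0
    apply hne'
    rw [← h0, ← rho_mul, ← rho_mul]
  · rw [dualRep_apply, rho_inv_rho]
    exact hne

end rgd

end Cfsg.Agent.H744.Ppd
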